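import Groth.Prelude.Def_AzInv
import Groth.Agent.Lib.AzMod.HullSplit

set_option autoImplicit false

/-!
# Base change of a semilinear involution along the fixed ring
-/

universe u v w u'

open scoped TensorProduct
open GrothLib.AzMod

namespace GrothLib.AzInvol

variable (S : Type u) {R : Type v} [CommRing S] [CommRing R] [Algebra S R]
  (lam : R ≃ₐ[S] R) (T : Type u) [CommRing T] [Algebra S T]

attribute [local instance] Algebra.TensorProduct.rightAlgebra scalarAlgebra

/-- The involution of `T ⊗ R`. -/
noncomputable abbrev lamT : (T ⊗[S] R) ≃ₐ[T] (T ⊗[S] R) :=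
  Algebra.TensorProduct.congr (AlgEquiv.refl : T ≃ₐ[T] T) lam

theorem lamT_tmul (c : T) (r : R) : lamT S lam T (c ⊗ₜ r) = c ⊗ₜ lam r := rfl

theorem lamT_invol (hlam : ∀ r, lam (lam r) = r) (z : T ⊗[S] R) : lamT S lam T (lamT S lam T z) = z := by
  induction z using TensorProduct.induction_on with
  | zero => simp
  | add p q hp hq => rw [map_add, map_add, hp, hq]
  | tmul c r => rw [lamT_tmul, lamT_tmul, hlam]

variable {A : Type w} [Ring A] [Algebra S A] [Algebra R A] [IsScalarTower S R A]
  (t : AzInv.LamInv R A lam)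

theorem bc_mul (x y : T ⊗[S] A) : t.bc S lam T (x * y) = t.bc S lam T y * t.bc S lam T x := by
  induction x using TensorProduct.induction_on with
  | zero => simp
  | add p q hp hq => rw [add_mul, map_add, map_add, mul_add, hp, hq]
  | tmul a b =>
    induction y using TensorProduct.induction_on with
    | zero => simp
    | add p q hp hq => rw [mul_add, map_add, map_add, add_mul, hp, hq]
    | tmul c d => simp [t.map_mul, mul_comm]

theorem bc_invol (x : T ⊗[S] A) : t.bc S lam T (t.bc S lam T x) = x := by
  induction x using TensorProduct.induction_on with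
  | zero => simp
  | add p q hp hq => rw [map_add, map_add, hp, hq]
  | tmul a b => simp

theorem bc_one : t.bc S lam T 1 = 1 := by
  rw [Algebra.TensorProduct.one_def, AzInv.LamInv.bc_tmul, t.map_one]

theorem bc_scalar (c : T ⊗[S] R) : t.bc S lam T (scalarHom S A T c) = scalarHom S A T (lamT S lam T c) := by
  induction c using TensorProduct.induction_on with
  | zero => simp
  | add p q hp hq => simp only [map_add, hp, hq]
  | tmul a b => simp [scalarHom, lamT_tmul, t.map_algebraMap]

theorem bc_algebraMap (c : T ⊗[S] R) :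
    t.bc S lam T (algebraMap (T ⊗[S] R) (T ⊗[S] A) c) = algebraMap (T ⊗[S] R) (T ⊗[S] A) (lamT S lam T c) :=
  bc_scalar S lam T t c

theorem bc_scalarMul (c : T ⊗[S] R) (x : T ⊗[S] A) :
    t.bc S lam T (c • x) = lamT S lam T c • t.bc S lam T x := by
  rw [Algebra.smul_def, bc_mul, bc_algebraMap, ← Algebra.commutes, ← Algebra.smul_def]

theorem bc_isUnit {x : T ⊗[S] A} (h : IsUnit x) : IsUnit (t.bc S lam T x) := by
  obtain ⟨y, h1, h2⟩ := isUnit_iff_exists.1 h
  exact isUnit_iff_exists.2 ⟨t.bc S lam T y, by rw [← bc_mul, h2, bc_one], by rw [← bc_mul, h1, bc_one]⟩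

/-- Naturality in `T`. -/
theorem bc_map {T' : Type u} [CommRing T'] [Algebra S T'] (g : T →ₐ[S] T') (x : T ⊗[S] A) :
    Algebra.TensorProduct.map g (AlgHom.id S A) (t.bc S lam T x) =
      t.bc S lam T' (Algebra.TensorProduct.map g (AlgHom.id S A) x) := by
  induction x using TensorProduct.induction_on with
  | zero => simp
  | add p q hp hq => simp only [map_add, hp, hq]
  | tmul a b => simp

end GrothLib.AzInvol
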