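import Groth.Agent.Lib.AzInvol.Local
import Groth.Agent.Lib.RInvol.Branch
import Mathlib.RingTheory.AdjoinRoot

set_option autoImplicit false

/-!
# The two types
-/

universe u v w w'

open scoped TensorProduct
open GrothLib.AzMod GrothLib.RInvol GrothLib.RInvol.Forms GrothLib.Hensel Matrix

namespace GrothLib.AzInvol

attribute [local instance] Algebra.TensorProduct.rightAlgebra scalarAlgebra hull_isLocalRing

variable {S : Type u} {R : Type v} [CommRing S] [CommRing R] [Algebra S R] {lam : R ≃ₐ[S] R}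

/-- The quotient is split (unramified) at `p`. -/
def SplitAt (lam : R ≃ₐ[S] R) (p : PrimeSpectrum S) : Prop :=
  ∃ e : Hull S (geomField p) ⊗[S] R, IsIdempotentElem e ∧ lamT S lam (Hull S (geomField p)) e = 1 - e

theorem isQuadEtale_baseChange (hq : RInv.IsQuadEtale S R) (T : Type w) [CommRing T] [Algebra S T] :
    RInv.IsQuadEtale T (T ⊗[S] R) := by
  obtain ⟨hfin, hproj, hunr, hrk⟩ := hq
  exact ⟨inferInstance, inferInstance, inferInstance, fun p => by rw [Module.rankAtStalk_baseChange, hrk]⟩

theorem hull_cases (hlam : ∀ r, lam (lam r) = r) (hfix : RInv.IsFixedRing S R lam.toRingEquiv) (p : PrimeSpectrum S) :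
    (∃ (_ : IsLocalRing (Hull S (geomField p) ⊗[S] R)),
      ∀ z, lamT S lam (Hull S (geomField p)) z - z ∈ IsLocalRing.maximalIdeal (Hull S (geomField p) ⊗[S] R)) ∨
      SplitAt lam p := by
  have : HenselianLocalRing (Hull S (geomField p)) := hull_henselian
  have : IsSepClosed (IsLocalRing.ResidueField (Hull S (geomField p))) := hull_isSepClosed
  rcases (isInvol_hull (geomField p) hlam hfix).henselian_cases with ⟨h, -, -, htriv⟩ | h
  · exact Or.inl ⟨h, htriv⟩
  · exact Or.inr h

theorem splitAt_of_isQuadEtale (hlam : ∀ r, lam (lam r) = r) (hfix : RInv.IsFixedRing S R lam.toRingEquiv)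
    (hq : RInv.IsQuadEtale S R) (p : PrimeSpectrum S) : SplitAt lam p := by
  refine (hull_cases hlam hfix p).resolve_left fun ⟨_, htriv⟩ => ?_
  refine (isInvol_hull (geomField p) hlam hfix).not_isQuadEtale_of_forall (fun z => ?_)
    (isQuadEtale_baseChange hq _)
  rw [IsLocalRing.ringJacobson_eq_maximalIdeal]; exact htriv z

/-- A ramified prime excludes splitting. -/
theorem not_splitAt_of_ramified (hlam : ∀ r, lam (lam r) = r) (hfix : RInv.IsFixedRing S R lam.toRingEquiv)
    {p : PrimeSpectrum S} (q : PrimeSpectrum R) (hqp : q.asIdeal.comap (algebraMap S R) = p.asIdeal)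
    (hq : ∀ r : R, lam r - r ∈ q.asIdeal) : ¬ SplitAt lam p := by
  rintro ⟨e, he, hle⟩
  have hI := isInvol_of_fixedRing' lam hlam hfix
  have := hI.isIntegral
  let k := p.asIdeal.ResidueField
  let F := k ⊗[S] R
  have : Nontrivial F := p.nontrivial_iff_mem_rangeComap.2 ⟨q, PrimeSpectrum.ext hqp⟩
  obtain ⟨m, hm⟩ := Ideal.exists_maximal F
  let := Ideal.Quotient.field m
  have : Algebra.IsAlgebraic k (F ⧸ m) := inferInstance
  let g : F ⧸ m →ₐ[k] geomField p := IsAlgClosed.lift
  let σ : R →ₐ[S] geomField p :=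
    ((g.comp (Ideal.Quotient.mkₐ k m)).restrictScalars S).comp Algebra.TensorProduct.includeRight
  have hσ : (RingHom.ker σ.toRingHom).comap (algebraMap S R) = p.asIdeal := by
    ext s
    rw [Ideal.mem_comap, RingHom.mem_ker]
    refine Iff.trans ?_ (SetLike.ext_iff.1 (ker_geomField p) s)
    rw [RingHom.mem_ker]
    show σ (algebraMap S R s) = 0 ↔ _
    rw [σ.commutes]
  have hker : RingHom.ker σ.toRingHom = q.asIdeal := by
    rcases hI.eq_or_eq_comap (RingHom.ker_isPrime σ.toRingHom) q.2 (hσ.trans hqp.symm) with h | h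
    · exact h
    · refine h.trans (Ideal.ext fun x => ?_)
      simp only [Ideal.mem_comap, RingHom.coe_coe]
      exact ⟨fun hx => by simpa using q.asIdeal.sub_mem hx (hq x), fun hx => by simpa using q.asIdeal.add_mem (hq x) hx⟩
  let ρ : Hull S (geomField p) ⊗[S] R →ₐ[S] geomField p :=
    Algebra.TensorProduct.lift Hull.proj σ fun _ _ => Commute.all _ _
  have hρ : ∀ z, ρ (lamT S lam (Hull S (geomField p)) z) = ρ z := fun z => by
    induction z using TensorProduct.induction_on with
    | zero => simp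
    | add a b ha hb => rw [map_add, map_add, map_add, ha, hb]
    | tmul c r =>
      rw [lamT_tmul]
      show Hull.proj c * σ (lam r) = Hull.proj c * σ r
      have : σ (lam r - r) = 0 := by
        show lam r - r ∈ RingHom.ker σ.toRingHom
        rw [hker]; exact hq r
      rw [map_sub, sub_eq_zero] at this
      rw [this]
  have h1 : ρ e = 1 - ρ e := by
    conv_lhs => rw [← hρ, hle, map_sub, map_one]
  rcases IsIdempotentElem.iff_eq_zero_or_one.1 (he.map ρ) with h0 | h0 <;> simp [h0] at h1

theorem exists_ramified_of_not_splitAt (hlam : ∀ r, lam (lam r) = r) (hfix : RInv.IsFixedRing S R lam.toRingEquiv)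
    {p : PrimeSpectrum S} (h : ¬ SplitAt lam p) :
    ∃ q : PrimeSpectrum R, q.asIdeal.comap (algebraMap S R) = p.asIdeal ∧ ∀ r : R, lam r - r ∈ q.asIdeal := by
  obtain ⟨_, htriv⟩ := (hull_cases hlam hfix p).resolve_right h
  set H := Hull S (geomField p)
  let M := IsLocalRing.maximalIdeal (H ⊗[S] R)
  refine ⟨⟨M.comap (Algebra.TensorProduct.includeRight : R →ₐ[S] H ⊗[S] R), Ideal.comap_isPrime _ _⟩, ?_,
    fun r => ?_⟩
  · have h1 := (isInvol_hull (geomField p) hlam hfix).comap_eq_maximalIdeal M
    refine Ideal.ext fun s => ?_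
    show (1 : H) ⊗ₜ[S] algebraMap S R s ∈ M ↔ _
    rw [show ((1 : H) ⊗ₜ[S] algebraMap S R s : H ⊗[S] R) = algebraMap H (H ⊗[S] R) (algebraMap S H s) from by
      show _ = algebraMap S H s ⊗ₜ[S] (1 : R)
      rw [Algebra.algebraMap_eq_smul_one s, TensorProduct.tmul_smul, TensorProduct.smul_tmul', ← Algebra.algebraMap_eq_smul_one],
      ← Ideal.mem_comap, h1, hull_maximalIdeal, RingHom.mem_ker]
    show Hull.proj (algebraMap S H s) = 0 ↔ _
    rw [AlgHom.commutes, ← RingHom.mem_ker, ker_geomField]
  · show (1 : H) ⊗ₜ[S] (lam r - r) ∈ M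
    rw [TensorProduct.tmul_sub]
    exact htriv ((1 : H) ⊗ₜ r)

/-- With `2` invertible units have square roots etale locally. -/
theorem hasSqrts_of_isUnit_two (h2 : IsUnit (2 : S)) : HasSqrts S := by
  intro S₁ _ _ _ x
  classical
  rcases subsingleton_or_nontrivial S₁ with h | h
  · exact ⟨S₁, inferInstance, inferInstance, inferInstance, inferInstance, 0, Subsingleton.elim _ _⟩
  let F : Polynomial S₁ := Polynomial.X ^ 2 - Polynomial.C (x : S₁)
  have hF : F.Monic := Polynomial.monic_X_pow_sub_C _ two_ne_zero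
  have hd : F.natDegree = 2 := Polynomial.natDegree_X_pow_sub_C
  have hr : AdjoinRoot.root F * AdjoinRoot.root F = algebraMap S₁ (AdjoinRoot F) x := by
    have := AdjoinRoot.aeval_eq F ▸ AdjoinRoot.mk_self (f := F)
    simp only [F, map_sub, map_pow, Polynomial.aeval_X, Polynomial.aeval_C] at this
    rw [← pow_two]; exact sub_eq_zero.1 this
  have h2' : IsUnit (2 : AdjoinRoot F) := by
    have := (h2.map (algebraMap S S₁)).map (algebraMap S₁ (AdjoinRoot F))
    rwa [map_ofNat, map_ofNat] at this
  have hru : IsUnit (AdjoinRoot.root F) := isUnit_of_mul_isUnit_left (hr ▸ x.isUnit.map _)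
  have hder : IsUnit (Polynomial.aeval (AdjoinRoot.root F) F.derivative) := by
    simp only [F, Polynomial.derivative_sub, Polynomial.derivative_X_pow, Polynomial.derivative_C, sub_zero, map_mul,
      Polynomial.aeval_C, map_pow, Polynomial.aeval_X, Nat.add_one_sub_one, pow_one, Nat.cast_ofNat, map_ofNat]
    exact h2'.mul hru
  rw [AdjoinRoot.aeval_eq] at hder
  let P := simpleRootPair F hF
  let L := Localization.Away (AdjoinRoot.mk F F.derivative)
  let e : AdjoinRoot F ≃ₐ[AdjoinRoot F] L :=
    IsLocalization.atUnits (AdjoinRoot F) (Submonoid.powers (AdjoinRoot.mk F F.derivative)) (by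
      rintro _ ⟨m, rfl⟩; exact hder.pow m)
  have : Algebra.Etale S₁ L := Algebra.Etale.of_equiv P.equivAwayAdjoinRoot
  have : Algebra.Etale S₁ (AdjoinRoot F) := Algebra.Etale.of_equiv (e.restrictScalars S₁).symm
  have : Module.Free S₁ (AdjoinRoot F) := .of_basis (AdjoinRoot.powerBasis' hF).basis
  have : Nontrivial (AdjoinRoot F) := by
    have hdim : (AdjoinRoot.powerBasis' hF).dim = 2 := by rw [AdjoinRoot.powerBasis'_dim]; exact hd
    exact ⟨(AdjoinRoot.powerBasis' hF).basis ⟨0, by omega⟩, 0, (AdjoinRoot.powerBasis' hF).basis.ne_zero _⟩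
  exact ⟨AdjoinRoot F, inferInstance, inferInstance, inferInstance, inferInstance, AdjoinRoot.root F, hr⟩

end GrothLib.AzInvol
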