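import Groth.Agent.Lib.AzInvol.Std
import Groth.Agent.Lib.AzMod.Skolem
import Groth.Agent.Lib.RInvol.FormsExtra
import Mathlib.RingTheory.PicardGroup

set_option autoImplicit false

/-!
# Involutions of a split algebra and forms
-/

universe u v w

open scoped TensorProduct
open GrothLib.AzMod GrothLib.RInvol.Forms Matrix

namespace GrothLib.AzInvol

/-- Over a semilocal ring every automorphism of an Azumaya algebra is inner. -/
theorem exists_unit_conj_semilocal {R : Type u} {A : Type v} [CommRing R] [Ring A] [Algebra R A] [IsAzumaya R A]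
    [Finite (MaximalSpectrum R)] (φ : A ≃ₐ[R] A) :
    ∃ a : Aˣ, ∀ x : A, φ x = (a : A) * x * (a⁻¹ : Aˣ) := by
  have := twistFixed_invertible φ
  have := twistFixed_invertible φ.symm
  obtain ⟨ez⟩ := Module.Invertible.free_iff_linearEquiv.1
    (inferInstance : Module.Free R (twistFixed (φ : A →ₐ[R] A)))
  obtain ⟨ew⟩ := Module.Invertible.free_iff_linearEquiv.1
    (inferInstance : Module.Free R (twistFixed (φ.symm : A →ₐ[R] A)))
  let z := ez.symm 1
  let w := ew.symm 1
  obtain ⟨r, hr⟩ := mul_twistFixed_mem φ z w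
  obtain ⟨s, hs⟩ := mul_twistFixed_mem' φ z w
  have hru : IsUnit r := by
    by_contra hr'
    obtain ⟨M, hM, hrM⟩ := exists_max_ideal_of_mem_nonunits hr'
    obtain ⟨z', w', r', h', hr'M⟩ := exists_mul_notMem φ M hM.ne_top
    refine hr'M ?_
    have hz : z' = ez z' • z := by rw [← map_smul, smul_eq_mul, mul_one, LinearEquiv.symm_apply_apply]
    have hw : w' = ew w' • w := by rw [← map_smul, smul_eq_mul, mul_one, LinearEquiv.symm_apply_apply]
    rw [hz, hw, Submodule.coe_smul, Submodule.coe_smul, smul_mul_smul_comm, hr, Algebra.smul_def,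
      ← map_mul] at h'
    rw [← algebraMap_injective (A := A) h']
    exact M.mul_mem_left _ hrM
  have hsr : s = r := (sub_eq_zero.1 (hru.mul_left_eq_zero.1 (sub_mul_eq_zero_of_mul hr hs))).symm
  obtain ⟨r, rfl⟩ := hru
  let a : Aˣ := ⟨z, (↑r⁻¹ : R) • (w : A),
    by rw [mul_smul_comm, hr, Algebra.smul_def, ← map_mul, Units.inv_mul, map_one],
    by rw [smul_mul_assoc, hs, hsr, Algebra.smul_def, ← map_mul, Units.inv_mul, map_one]⟩
  refine ⟨a, fun x => ?_⟩
  have h := mem_twistFixed.1 z.2 x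
  simp only [AlgEquiv.coe_toAlgHom] at h
  rw [show ((a : A)) = z from rfl, ← h, mul_assoc, show (z : A) = a from rfl, Units.mul_inv, mul_one]

theorem exists_eq_smul_one {R : Type u} [CommRing R] {ι : Type} [Fintype ι] [DecidableEq ι] (M : Matrix ι ι R)
    (hM : ∀ x : Matrix ι ι R, x * M = M * x) : ∃ c : R, M = c • (1 : Matrix ι ι R) := by
  obtain ⟨c, hc⟩ := Matrix.mem_range_scalar_of_commute_single fun i j _ => hM (Matrix.single i j 1)
  exact ⟨c, by rw [← hc, smul_one_eq_diagonal]; rfl⟩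

variable {S : Type u} {R : Type v} [CommRing S] [CommRing R] [Algebra S R]
  {lam : R ≃ₐ[S] R} {T : Type u} [CommRing T] [Algebra S T]
  {A : Type w} [Ring A] [Algebra S A] [Algebra R A] [IsScalarTower S R A]
  {t : AzInv.LamInv R A lam} {ι κ : Type} [Fintype ι] [DecidableEq ι] [Fintype κ] [DecidableEq κ]

attribute [local instance] Algebra.TensorProduct.rightAlgebra scalarAlgebra

/-- The involution of `T ⊗ R` as a ring map. -/
local notation3 "μ" => ((lamT S lam T : (T ⊗[S] R) ≃ₐ[T] T ⊗[S] R) : (T ⊗[S] R) →+* T ⊗[S] R)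

/-- The involution is adjoint to the form `w` after base change to `T`. -/
def HasForm (t : AzInv.LamInv R A lam) (T : Type u) [CommRing T] [Algebra S T] {ι : Type} [Fintype ι]
    [DecidableEq ι] (w : Matrix ι ι (T ⊗[S] R)) : Prop :=
  IsUnit w ∧ ∃ f : (T ⊗[S] A) ≃ₐ[T ⊗[S] R] Matrix ι ι (T ⊗[S] R), ∀ x,
    f (t.bc S lam T x) * w = w * st (lamT S lam T : (T ⊗[S] R) →+* T ⊗[S] R) (f x)

theorem st_st (hlam : ∀ r, lam (lam r) = r) (M : Matrix ι κ (T ⊗[S] R)) : st μ (st μ M) = M :=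
  Matrix.ext fun i j => lamT_invol S lam T hlam _

theorem HasForm.cong {w w' : Matrix ι ι (T ⊗[S] R)} (h : HasForm t T w) (hc : Cong μ w w') : HasForm t T w' := by
  obtain ⟨hu, f, hf⟩ := h
  obtain ⟨g, hg, rfl⟩ := hc
  refine ⟨(hg.mul hu).mul (isUnit_st μ hg), ?_⟩
  obtain ⟨gi, h1, h2⟩ := isUnit_iff_exists.1 hg
  let C : Matrix ι ι (T ⊗[S] R) →ₐ[T ⊗[S] R] Matrix ι ι (T ⊗[S] R) := AlgHom.ofLinearMap
    { toFun := fun M => g * M * gi
      map_add' := fun a b => by simp [Matrix.mul_add, Matrix.add_mul]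
      map_smul' := fun c a => by simp }
    (show g * 1 * gi = 1 by rw [Matrix.mul_one, h1])
    (fun a b => show g * (a * b) * gi = g * a * gi * (g * b * gi) by
      simp only [Matrix.mul_assoc]; rw [← Matrix.mul_assoc gi, h2, Matrix.one_mul])
  have hC : Function.Bijective C := Function.bijective_iff_has_inverse.2 ⟨fun M => gi * M * g,
    fun M => show gi * (g * M * gi) * g = M by
      simp only [← Matrix.mul_assoc]; rw [h2, Matrix.one_mul, Matrix.mul_assoc, h2, Matrix.mul_one],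
    fun M => show g * (gi * M * g) * gi = M by
      simp only [← Matrix.mul_assoc]; rw [h1, Matrix.one_mul, Matrix.mul_assoc, h1, Matrix.mul_one]⟩
  refine ⟨f.trans (AlgEquiv.ofBijective C hC), fun x => ?_⟩
  show g * f (t.bc S lam T x) * gi * (g * w * st μ g) = g * w * st μ g * st μ (g * f x * gi)
  have h3 : st μ g * st μ gi = 1 := by rw [← st_mul, h2, st_one]
  calc g * f (t.bc S lam T x) * gi * (g * w * st μ g) = g * f (t.bc S lam T x) * (gi * g) * w * st μ g := by
        simp only [Matrix.mul_assoc]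
    _ = g * (f (t.bc S lam T x) * w) * st μ g := by rw [h2, Matrix.mul_one, Matrix.mul_assoc g]
    _ = g * w * (st μ g * st μ gi) * (st μ (f x) * st μ g) := by
        rw [hf, h3, Matrix.mul_one]; simp only [Matrix.mul_assoc]
    _ = _ := by rw [st_mul, st_mul]; simp only [Matrix.mul_assoc]

theorem HasForm.smul {w : Matrix ι ι (T ⊗[S] R)} (h : HasForm t T w) {r : T ⊗[S] R} (hr : IsUnit r) :
    HasForm t T (r • w) := by
  obtain ⟨hu, f, hf⟩ := h
  refine ⟨?_, f, fun x => by rw [Matrix.mul_smul, Matrix.smul_mul, hf]⟩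
  rw [Algebra.smul_def]
  exact (hr.map _).mul hu

theorem HasForm.reindex {w : Matrix ι ι (T ⊗[S] R)} (h : HasForm t T w) (e : ι ≃ κ) :
    HasForm t T (Matrix.reindex e e w) := by
  obtain ⟨hu, f, hf⟩ := h
  refine ⟨hu.map (Matrix.reindexAlgEquiv (T ⊗[S] R) (T ⊗[S] R) e),
    f.trans (Matrix.reindexAlgEquiv (T ⊗[S] R) (T ⊗[S] R) e), fun x => ?_⟩
  show Matrix.reindex e e (f _) * Matrix.reindex e e w = Matrix.reindex e e w * st μ (Matrix.reindex e e (f x))
  simp only [Matrix.reindex_apply, st_submatrix, Matrix.submatrix_mul_equiv, hf]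

theorem Std.hasForm [IsAzumaya R A] [Nonempty ι] {w wi : Matrix ι ι T} (h : Std S lam T t w wi)
    (h1 : w * wi = 1) (h2 : wi * w = 1)
    (hrk : ∀ q : PrimeSpectrum (T ⊗[S] R), Module.rankAtStalk (T ⊗[S] A) q = Fintype.card ι ^ 2) :
    HasForm t T (w.map (algebraMap T (T ⊗[S] R))) := by
  obtain ⟨f, hf⟩ := h.exists_equiv hrk
  have hm : ∀ a b : Matrix ι ι T, a * b = 1 →
      a.map (algebraMap T (T ⊗[S] R)) * b.map (algebraMap T (T ⊗[S] R)) = 1 := fun a b hab => by
    rw [← Matrix.map_mul, hab, Matrix.map_one _ (map_zero _) (map_one _)]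
  refine ⟨isUnit_iff_exists.2 ⟨_, hm _ _ h1, hm _ _ h2⟩, f, fun x => ?_⟩
  rw [hf, Matrix.mul_assoc _ _ (w.map _), hm _ _ h2, Matrix.mul_one]

theorem HasForm.std {w wi : Matrix ι ι T} (h1 : w * wi = 1)
    (h : HasForm t T (w.map (algebraMap T (T ⊗[S] R)))) : Std S lam T t w wi := by
  obtain ⟨-, f, hf⟩ := h
  refine Std.of_equiv f fun x => ?_
  rw [← hf, Matrix.mul_assoc, ← Matrix.map_mul, h1, Matrix.map_one _ (map_zero _) (map_one _), Matrix.mul_one]

/-- Existence of a form when the algebra is split. -/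
theorem exists_hasForm (hlam : ∀ r, lam (lam r) = r) [Finite (MaximalSpectrum (T ⊗[S] R))] [Nonempty ι]
    (f : (T ⊗[S] A) ≃ₐ[T ⊗[S] R] Matrix ι ι (T ⊗[S] R)) :
    ∃ (w : Matrix ι ι (T ⊗[S] R)) (ε : T ⊗[S] R), μ ε * ε = 1 ∧ IsForm μ ε w ∧ IsUnit w ∧ HasForm t T w := by
  have hinv := lamT_invol S lam T hlam
  let φ : Matrix ι ι (T ⊗[S] R) ≃ₐ[T ⊗[S] R] Matrix ι ι (T ⊗[S] R) :=
    AlgEquiv.ofBijective
      (AlgHom.ofLinearMap
        { toFun := fun x => f (t.bc S lam T (f.symm (st μ x)))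
          map_add' := fun a b => by
            rw [show st μ (a + b) = st μ a + st μ b from Matrix.ext fun i j => by simp, map_add, map_add, map_add]
          map_smul' := fun c a => by
            rw [RingHom.id_apply, st_smul, map_smul, bc_scalarMul, map_smul]
            congr 1
            exact hinv c }
        (by show f (t.bc S lam T (f.symm (st μ 1))) = 1; rw [st_one, map_one, bc_one, map_one])
        (fun a b => by
          show f (t.bc S lam T (f.symm (st μ (a * b)))) =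
            f (t.bc S lam T (f.symm (st μ a))) * f (t.bc S lam T (f.symm (st μ b)))
          rw [st_mul, map_mul, bc_mul, map_mul]))
      (Function.bijective_iff_has_inverse.2 ⟨fun y => st μ (f (t.bc S lam T (f.symm y))),
        fun x => by
          show st μ (f (t.bc S lam T (f.symm (f (t.bc S lam T (f.symm (st μ x))))))) = x
          rw [AlgEquiv.symm_apply_apply, bc_invol, AlgEquiv.apply_symm_apply, st_st hlam],
        fun y => by
          show f (t.bc S lam T (f.symm (st μ (st μ (f (t.bc S lam T (f.symm y))))))) = y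
          rw [st_st hlam, AlgEquiv.symm_apply_apply, bc_invol, AlgEquiv.apply_symm_apply]⟩)
  have : IsAzumaya (T ⊗[S] R) (Matrix ι ι (T ⊗[S] R)) := IsAzumaya.matrix _ _
  obtain ⟨a, ha⟩ := exists_unit_conj_semilocal φ
  obtain ⟨G, hG⟩ : ∃ G : Matrix ι ι (T ⊗[S] R), G = a.val := ⟨_, rfl⟩
  obtain ⟨Gi, hGi⟩ : ∃ Gi : Matrix ι ι (T ⊗[S] R), Gi = (a⁻¹).val := ⟨_, rfl⟩
  have h1 : G * Gi = 1 := by rw [hG, hGi]; exact Units.mul_inv a
  have h2 : Gi * G = 1 := by rw [hG, hGi]; exact Units.inv_mul a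
  have hft : ∀ x, f (t.bc S lam T x) = G * st μ (f x) * Gi := fun x => by
    have h := ha (st μ (f x))
    rw [show φ (st μ (f x)) = f (t.bc S lam T (f.symm (st μ (st μ (f x))))) from rfl, st_st hlam,
      AlgEquiv.symm_apply_apply] at h
    rw [hG, hGi]; exact h
  have hQP : (st μ G * Gi) * (G * st μ Gi) = 1 := by
    rw [Matrix.mul_assoc, ← Matrix.mul_assoc Gi, h2, Matrix.one_mul, ← st_mul, h2, st_one]
  obtain ⟨c, hc⟩ := exists_eq_smul_one (st μ G * Gi) fun y => by
    have hii : y = (G * st μ Gi) * y * (st μ G * Gi) := by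
      conv_lhs => rw [← f.apply_symm_apply y, ← bc_invol S lam T t (f.symm y), hft, hft, AlgEquiv.apply_symm_apply]
      simp only [st_mul, st_st hlam, Matrix.mul_assoc]
    calc y * (st μ G * Gi) = ((st μ G * Gi) * (G * st μ Gi)) * y * (st μ G * Gi) := by rw [hQP, Matrix.one_mul]
      _ = (st μ G * Gi) * ((G * st μ Gi) * y * (st μ G * Gi)) := by simp only [Matrix.mul_assoc]
      _ = _ := by rw [← hii]
  have hsg : st μ G = c • G := by
    calc st μ G = st μ G * Gi * G := by rw [Matrix.mul_assoc, h2, Matrix.mul_one]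
      _ = _ := by rw [hc, Matrix.smul_mul, Matrix.one_mul]
  have hcc : μ c * c = 1 := by
    have h := congrArg (st μ) hsg
    rw [st_st hlam, st_smul, hsg, smul_smul] at h
    have h' := congrArg (· * Gi) h
    simp only [Matrix.smul_mul, h1] at h'
    obtain ⟨i⟩ := (inferInstance : Nonempty ι)
    simpa using (congrFun (congrFun h' i) i).symm
  have hu : IsUnit G := isUnit_iff_exists.2 ⟨Gi, h1, h2⟩
  refine ⟨G, μ c, ?_, ?_, hu, hu, f, fun x => ?_⟩
  · rw [show μ (μ c) = c from hinv c, mul_comm, hcc]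
  · show μ c • st μ G = G
    rw [hsg, smul_smul, hcc, one_smul]
  · rw [hft, Matrix.mul_assoc, h2, Matrix.mul_one]

/-- Two forms of one involution are similar. -/
theorem HasForm.similar [Finite (MaximalSpectrum (T ⊗[S] R))] [Nonempty ι] {w w' : Matrix ι ι (T ⊗[S] R)}
    (hlam : ∀ r, lam (lam r) = r) (h : HasForm t T w) (h' : HasForm t T w') :
    ∃ (g : Matrix ι ι (T ⊗[S] R)) (r : T ⊗[S] R), IsUnit g ∧ g * w * st μ g = r • w' := by
  obtain ⟨hu, f, hf⟩ := h
  obtain ⟨hu', f', hf'⟩ := h'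
  obtain ⟨wi, hw1, hw2⟩ := isUnit_iff_exists.1 hu
  obtain ⟨wi', hw1', hw2'⟩ := isUnit_iff_exists.1 hu'
  have : IsAzumaya (T ⊗[S] R) (Matrix ι ι (T ⊗[S] R)) := IsAzumaya.matrix _ _
  obtain ⟨a, ha⟩ := exists_unit_conj_semilocal (f.symm.trans f')
  obtain ⟨G, hG⟩ : ∃ G : Matrix ι ι (T ⊗[S] R), G = a.val := ⟨_, rfl⟩
  obtain ⟨Gi, hGi⟩ : ∃ Gi : Matrix ι ι (T ⊗[S] R), Gi = (a⁻¹).val := ⟨_, rfl⟩
  have h1 : G * Gi = 1 := by rw [hG, hGi]; exact Units.mul_inv a
  have h2 : Gi * G = 1 := by rw [hG, hGi]; exact Units.inv_mul a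
  have hf2 : ∀ x, f' x = G * f x * Gi := fun x => by
    have h := ha (f x)
    rw [AlgEquiv.trans_apply, AlgEquiv.symm_apply_apply] at h
    rw [hG, hGi]; exact h
  have hT : st μ G * st μ Gi = 1 := by rw [← st_mul, h2, st_one]
  have hT' : st μ Gi * st μ G = 1 := by rw [← st_mul, h1, st_one]
  obtain ⟨r, hr⟩ := exists_eq_smul_one (st μ G * wi' * G * w) fun Y => by
    have hY : st μ (f (f.symm (st μ Y))) = Y := by rw [AlgEquiv.apply_symm_apply, st_st hlam]
    have hA : f (t.bc S lam T (f.symm (st μ Y))) = w * Y * wi := by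
      calc _ = f (t.bc S lam T (f.symm (st μ Y))) * (w * wi) := by rw [hw1, Matrix.mul_one]
        _ = _ := by rw [← Matrix.mul_assoc, hf, hY]
    have h3 : G * (w * Y * wi) * Gi * w' = w' * (st μ Gi * Y * st μ G) := by
      have h := hf' (f.symm (st μ Y))
      rw [hf2, hf2, hA, st_mul, st_mul, hY] at h
      simpa only [Matrix.mul_assoc] using h
    calc Y * (st μ G * wi' * G * w)
        = (st μ G * wi') * (w' * (st μ Gi * Y * st μ G)) * (wi' * G * w) := by
          simp only [← Matrix.mul_assoc]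
          rw [Matrix.mul_assoc (st μ G) wi' w', hw2', Matrix.mul_one, hT, Matrix.one_mul]
      _ = (st μ G * wi') * (G * (w * Y * wi) * Gi * w') * (wi' * G * w) := by rw [h3]
      _ = (st μ G * wi' * G * w * Y) * (wi * (Gi * (w' * wi') * G) * w) := by simp only [Matrix.mul_assoc]
      _ = _ := by rw [hw1', Matrix.mul_one, h2, Matrix.mul_one, hw2, Matrix.mul_one]
  refine ⟨G, r, isUnit_iff_exists.2 ⟨Gi, h1, h2⟩, ?_⟩
  calc G * w * st μ G = (w' * (st μ Gi * st μ G) * wi') * G * w * st μ G := by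
        rw [hT', Matrix.mul_one, hw1', Matrix.one_mul]
    _ = w' * (st μ Gi * (st μ G * wi' * G * w) * st μ G) := by simp only [Matrix.mul_assoc]
    _ = _ := by rw [hr, Matrix.mul_smul, Matrix.mul_one, Matrix.smul_mul, hT', Matrix.mul_smul, Matrix.mul_one]

end GrothLib.AzInvol
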