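import Mathlib.FieldTheory.IsAlgClosed.Basic
import Mathlib.RingTheory.Etale.Basic
import Mathlib.RingTheory.Unramified.Finite
import Mathlib.RingTheory.LocalRing.ResidueField.Ideal
import Mathlib.RingTheory.Spectrum.Prime.RingHom

set_option autoImplicit false

/-!
# Geometric points of étale algebras
-/

universe u v w

open scoped TensorProduct

namespace GrothLib.AzInvol

theorem exists_point {S : Type u} [CommRing S] {T : Type v} [CommRing T] [Algebra S T] [Algebra.Etale S T]
    {C : Type w} [Field C] [IsAlgClosed C] [Algebra S C] (p : PrimeSpectrum S)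
    (hp : RingHom.ker (algebraMap S C) = p.asIdeal) (hT : p ∈ Set.range (PrimeSpectrum.comap (algebraMap S T))) :
    Nonempty (T →ₐ[S] C) := by
  let k := p.asIdeal.ResidueField
  let F := k ⊗[S] T
  have : Nontrivial F := p.nontrivial_iff_mem_rangeComap.2 hT
  have : Module.Finite k F := Algebra.FormallyUnramified.finite_of_free k F
  obtain ⟨m, hm⟩ := Ideal.exists_maximal F
  let := Ideal.Quotient.field m
  let : Algebra k C := (Ideal.ResidueField.lift p.asIdeal (algebraMap S C) hp.ge
    fun s hs => isUnit_iff_ne_zero.2 fun h => hs (by rw [← hp]; exact h)).toAlgebra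
  have : IsScalarTower S k C := IsScalarTower.of_algebraMap_eq fun s =>
    (Ideal.ResidueField.lift_algebraMap ..).symm
  let e : F ⧸ m →ₐ[k] C := IsAlgClosed.lift
  exact ⟨((e.comp (Ideal.Quotient.mkₐ k m)).restrictScalars S).comp Algebra.TensorProduct.includeRight⟩

end GrothLib.AzInvol
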