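import Groth.Agent.Lib.AzInvol.Form
import Groth.Agent.Lib.AzInvol.Point
import Groth.Agent.Lib.RInvol.BranchLocus

set_option autoImplicit false

/-!
# Classification over the strict henselisation of the fixed ring
-/

universe u v w

open scoped TensorProduct
open GrothLib.AzMod GrothLib.RInvol GrothLib.RInvol.Forms GrothLib.Hensel Matrix

namespace GrothLib.AzInvol

/-- Units have square roots locally for the etale topology. -/
def HasSqrts (S : Type u) [CommRing S] : Prop :=
  ∀ (S₁ : Type u) [CommRing S₁] [Algebra S S₁] [Algebra.Etale S S₁] (x : S₁ˣ),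
    ∃ (S₂ : Type u) (_ : CommRing S₂) (_ : Algebra S₁ S₂) (_ : Algebra.Etale S₁ S₂)
      (_ : Module.FaithfullyFlat S₁ S₂) (y : S₂), y * y = algebraMap S₁ S₂ ↑x

/-- The standard alternating matrix of size `2k`. -/
def altJ (k : ℕ) (T : Type u) [CommRing T] : Matrix (Fin 2 × Fin k) (Fin 2 × Fin k) T :=
  Matrix.blockDiagonal fun _ => alt2 T

theorem altJ_map (k : ℕ) {T : Type u} {T' : Type v} [CommRing T] [CommRing T'] (g : T →+* T') :
    (altJ k T).map g = altJ k T' := by
  rw [altJ, Matrix.blockDiagonal_map _ _ (map_zero g)]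
  congr 1
  funext _
  ext i j
  fin_cases i <;> fin_cases j <;> simp [alt2]

theorem altJ_mul_neg (k : ℕ) (T : Type u) [CommRing T] : altJ k T * (-altJ k T) = 1 := by
  rw [altJ, Matrix.mul_neg, ← Matrix.blockDiagonal_mul, ← Matrix.blockDiagonal_neg, ← Matrix.blockDiagonal_one]
  congr 1
  funext _
  ext i j
  fin_cases i <;> fin_cases j <;> simp [alt2]

theorem neg_altJ_mul (k : ℕ) (T : Type u) [CommRing T] : -altJ k T * altJ k T = 1 := by
  rw [Matrix.neg_mul, ← Matrix.mul_neg, altJ_mul_neg]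

theorem st_altJ (k : ℕ) {T : Type u} [CommRing T] (μ : T →+* T) : st μ (altJ k T) = -altJ k T := by
  rw [st, altJ_map, altJ, Matrix.blockDiagonal_transpose, ← Matrix.blockDiagonal_neg]
  congr 1
  funext _
  ext i j
  fin_cases i <;> fin_cases j <;> simp [alt2]

theorem Cong.blockDiagonal {R : Type u} [CommRing R] {lam : R →+* R} {ι o : Type} [Fintype ι] [DecidableEq ι]
    [Fintype o] [DecidableEq o] {B B' : o → Matrix ι ι R} (h : ∀ k, Cong lam (B k) (B' k)) :
    Cong lam (Matrix.blockDiagonal B) (Matrix.blockDiagonal B') := by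
  choose g hg hgB using h
  choose gi h1 h2 using fun k => isUnit_iff_exists.1 (hg k)
  refine ⟨Matrix.blockDiagonal g, isUnit_iff_exists.2 ⟨Matrix.blockDiagonal gi, ?_, ?_⟩, ?_⟩
  · rw [← Matrix.blockDiagonal_mul, ← Matrix.blockDiagonal_one]; exact congrArg _ (funext h1)
  · rw [← Matrix.blockDiagonal_mul, ← Matrix.blockDiagonal_one]; exact congrArg _ (funext h2)
  · rw [show st lam (Matrix.blockDiagonal g) = Matrix.blockDiagonal fun k => st lam (g k) from by
      rw [st, Matrix.blockDiagonal_map _ _ (map_zero lam), Matrix.blockDiagonal_transpose]; rfl,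
      ← Matrix.blockDiagonal_mul, ← Matrix.blockDiagonal_mul]
    exact congrArg _ (funext hgB)

attribute [local instance] Algebra.TensorProduct.rightAlgebra scalarAlgebra hull_isLocalRing

variable {S : Type u} {R : Type v} [CommRing S] [CommRing R] [Algebra S R]
  {lam : R ≃ₐ[S] R} (C : Type u) [Field C] [Algebra S C]

theorem isInvol_hull (hlam : ∀ r, lam (lam r) = r) (hfix : RInv.IsFixedRing S R lam.toRingEquiv) :
    IsInvol (lamT S lam (Hull S C)) :=
  (isInvol_of_fixedRing' lam hlam hfix).baseChange (Hull S C) (Or.inl inferInstance)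

/-- Units of the strict henselisation are squares. -/
theorem exists_sqrt [IsAlgClosed C] (hsq : HasSqrts S) {x : Hull S C} (hx : IsUnit x) :
    ∃ y : Hull S C, IsUnit y ∧ y * y = x := by
  obtain ⟨xi, hxi⟩ := hx.exists_right_inv
  obtain ⟨N, a, ha⟩ := Hull.exists_ι_family ![x, xi]
  obtain ⟨M, f, hf⟩ := Hull.exists_map_eq_zero (N := N) (a := a 0 * a 1 - 1) (by
    rw [map_sub, map_mul, map_one, ha, ha]; simp [hxi])
  rw [map_sub, map_one, map_mul, sub_eq_zero] at hf
  obtain ⟨S₂, _, _, _, _, y, hy⟩ := hsq M.Ring (Units.mkOfMulEqOne _ _ hf)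
  let _ : Algebra S S₂ := ((algebraMap M.Ring S₂).comp (algebraMap S M.Ring)).toAlgebra
  have : IsScalarTower S M.Ring S₂ :=
    IsScalarTower.of_algebraMap_eq (R := S) (S := M.Ring) (A := S₂) fun _ => rfl
  have : Algebra.Etale S S₂ := Algebra.Etale.comp S M.Ring _
  let _ : Algebra M.Ring C := M.pt.toRingHom.toAlgebra
  have : IsScalarTower S M.Ring C :=
    IsScalarTower.of_algebraMap_eq (R := S) (S := M.Ring) (A := C) fun r => (M.pt.commutes r).symm
  obtain ⟨φ⟩ := exists_point (C := C) (T := S₂)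
    (⟨RingHom.ker (algebraMap M.Ring C), RingHom.ker_isPrime _⟩ : PrimeSpectrum M.Ring) rfl
    (PrimeSpectrum.comap_surjective_of_faithfullyFlat (A := M.Ring) (B := S₂) _)
  let φ' : S₂ →ₐ[S] C := φ.restrictScalars S
  have hφ : φ'.comp (IsScalarTower.toAlgHom S M.Ring S₂) = M.pt := AlgHom.ext fun z => φ.commutes z
  have h1 : Hull.of φ' (algebraMap M.Ring S₂ (f.map (a 0))) = x := by
    have h0 := AlgHom.congr_fun (Hull.of_comp φ' _ hφ) (f.map (a 0))
    rw [AlgHom.comp_apply, IsScalarTower.coe_toAlgHom', Hull.ι_map, ha] at h0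
    simpa using h0
  refine ⟨Hull.of φ' y, ?_, ?_⟩
  · refine isUnit_of_mul_isUnit_left (y := Hull.of φ' y) ?_
    rw [← map_mul, hy, show ((Units.mkOfMulEqOne _ _ hf : M.Ringˣ) : M.Ring) = f.map (a 0) from rfl, h1]
    exact hx
  · rw [← map_mul, hy, show ((Units.mkOfMulEqOne _ _ hf : M.Ringˣ) : M.Ring) = f.map (a 0) from rfl, h1]

variable {A : Type w} [Ring A] [Algebra S A] [Algebra R A] [IsScalarTower S R A]
  {t : AzInv.LamInv R A lam}

local notation3 "μ" => ((lamT S lam (Hull S C) : (Hull S C ⊗[S] R) ≃ₐ[Hull S C] Hull S C ⊗[S] R) :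
  (Hull S C ⊗[S] R) →+* Hull S C ⊗[S] R)

theorem finite_maximalSpectrum_hull (hlam : ∀ r, lam (lam r) = r) (hfix : RInv.IsFixedRing S R lam.toRingEquiv) :
    Finite (MaximalSpectrum (Hull S C ⊗[S] R)) := by
  classical
  have h := isInvol_hull C hlam hfix
  rcases isEmpty_or_nonempty (MaximalSpectrum (Hull S C ⊗[S] R)) with h0 | ⟨⟨M₀⟩⟩
  · exact Finite.of_subsingleton
  refine Finite.of_injective (β := Bool) (fun M => decide (M.asIdeal = M₀.asIdeal)) fun M M' hMM' => ?_
  refine MaximalSpectrum.ext ?_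
  simp only [decide_eq_decide] at hMM'
  rcases h.maximal_eq_or_eq M.isMaximal M₀.isMaximal with h1 | h1 <;>
    rcases h.maximal_eq_or_eq M'.isMaximal M₀.isMaximal with h2 | h2
  · rw [h1, h2]
  · rw [h1, hMM'.1 h1]
  · rw [hMM'.2 h2, h2]
  · rw [h1, h2]

theorem exists_hasForm_hull [IsAlgClosed C] [IsAzumaya R A] (t : AzInv.LamInv R A lam)
    (hlam : ∀ r, lam (lam r) = r) (hfix : RInv.IsFixedRing S R lam.toRingEquiv) {n : ℕ} (hn : 0 < n)
    (hrk : ∀ p : PrimeSpectrum R, Module.rankAtStalk A p = n ^ 2) :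
    ∃ (w : Matrix (Fin n) (Fin n) (Hull S C ⊗[S] R)) (ε : Hull S C ⊗[S] R),
      μ ε * ε = 1 ∧ IsForm μ ε w ∧ IsUnit w ∧ HasForm t (Hull S C) w := by
  obtain ⟨E, hE, hE1⟩ := exists_units_hull lam A hlam hfix.1 (fun r h => (hfix.2 r).1 h) hrk C
  have : Nonempty (Fin n) := ⟨⟨0, hn⟩⟩
  have := finite_maximalSpectrum_hull C hlam hfix
  have := isAzumaya_base (R := R) S A (Hull S C)
  obtain ⟨f, -, -⟩ := exists_equiv_of_units (R' := Hull S C ⊗[S] R) E hE hE1
    (rankAtStalk_base_eq hrk (Hull S C) (Fintype.card_fin n))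
  exact exists_hasForm hlam f

/-- Split case: the neutral form. -/
theorem hasForm_one_of_split (hlam : ∀ r, lam (lam r) = r) {ι : Type} [Fintype ι] [DecidableEq ι]
    {w : Matrix ι ι (Hull S C ⊗[S] R)} {ε : Hull S C ⊗[S] R} (hε : μ ε * ε = 1) (hw : IsForm μ ε w)
    (h : HasForm t (Hull S C) w) {e : Hull S C ⊗[S] R} (he : IsIdempotentElem e)
    (hle : lamT S lam (Hull S C) e = 1 - e) : HasForm t (Hull S C) (1 : Matrix ι ι (Hull S C ⊗[S] R)) := by
  set c := μ ε with hc
  have hle' : μ e = 1 - e := hle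
  have hμε : μ c = ε := lamT_invol S lam (Hull S C) hlam ε
  have hstw : st μ w = c • w := by
    conv_rhs => rw [← show ε • st μ w = w from hw, smul_smul, hε, one_smul]
  have hee : e * e = e := he
  set r := e + (1 - e) * c with hr
  have hru : IsUnit r := IsUnit.of_mul_eq_one (e + (1 - e) * ε) (by rw [hr]; linear_combination (1 - ε - c + c * ε) * hee + (1 - e) * hε)
  have hherm : st μ (r • w) = r • w := by
    rw [st_smul, hstw, smul_smul]
    congr 1
    rw [hr, map_add, map_mul, map_sub, map_one, hle', hμε]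
    linear_combination e * hε
  obtain ⟨W, hW1, hW2⟩ := isUnit_iff_exists.1 (h.smul hru).1
  have hstW : st μ W = W := by
    have h1 := congrArg (st μ) hW1
    rw [st_mul, st_one, hherm] at h1
    exact left_inv_eq_right_inv h1 hW1
  have hstg : st μ (e • W + (1 - e) • (1 : Matrix ι ι (Hull S C ⊗[S] R))) =
      (1 - e) • W + e • (1 : Matrix ι ι (Hull S C ⊗[S] R)) := by
    rw [show st μ (e • W + (1 - e) • (1 : Matrix ι ι (Hull S C ⊗[S] R))) =
      st μ (e • W) + st μ ((1 - e) • (1 : Matrix ι ι (Hull S C ⊗[S] R))) from Matrix.ext fun i j => by simp,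
      st_smul, st_smul, hstW, st_one, map_sub, map_one, hle', sub_sub_cancel]
  refine (h.smul hru).cong ⟨e • W + (1 - e) • (1 : Matrix ι ι (Hull S C ⊗[S] R)), ?_, ?_⟩
  · generalize hw' : r • w = w' at hW1 hW2
    refine isUnit_iff_exists.2 ⟨e • w' + (1 - e) • (1 : Matrix ι ι (Hull S C ⊗[S] R)), ?_, ?_⟩ <;>
      simp only [Matrix.add_mul, Matrix.mul_add, Matrix.smul_mul, Matrix.mul_smul, Matrix.one_mul, Matrix.mul_one,
        smul_add, smul_smul, he.eq, he.one_sub.eq, he.mul_one_sub_self, he.one_sub_mul_self, zero_smul, add_zero, zero_add,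
        hW1, hW2] <;> rw [← add_smul, add_sub_cancel, one_smul]
  · rw [hstg]
    generalize hw' : r • w = w' at hW1 hW2 ⊢
    simp only [Matrix.add_mul, Matrix.mul_add, Matrix.smul_mul, Matrix.mul_smul, Matrix.one_mul, Matrix.mul_one,
      smul_add, smul_smul, he.eq, he.one_sub.eq, he.mul_one_sub_self, he.one_sub_mul_self, zero_smul, add_zero, zero_add,
      hW1, hW2, ← Matrix.mul_assoc]
    rw [← add_smul, sub_add_cancel, one_smul]

variable [IsAlgClosed C]

/-- A hermitian diagonalizable form is neutral. -/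
theorem hasForm_one_of_diagonal (hlam : ∀ r, lam (lam r) = r) (hfix : RInv.IsFixedRing S R lam.toRingEquiv)
    (hsq : HasSqrts S) {ι : Type} [Fintype ι] [DecidableEq ι] {w : Matrix ι ι (Hull S C ⊗[S] R)}
    (hw : IsForm μ 1 w) (h : HasForm t (Hull S C) w) (hd : Diagonalizable μ w) :
    HasForm t (Hull S C) (1 : Matrix ι ι (Hull S C ⊗[S] R)) := by
  have hI := isInvol_hull C hlam hfix
  obtain ⟨d, hd⟩ := hd
  have hD := h.cong hd
  have hDf := hd.isForm (fun r => lamT_invol S lam (Hull S C) hlam r) hw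
  have hy : ∀ i, ∃ y : Hull S C, IsUnit y ∧ algebraMap (Hull S C) (Hull S C ⊗[S] R) (y * y) = d i := fun i => by
    have h1 : μ (d i) = d i := by simpa using hDf.apply i i
    obtain ⟨x, hx⟩ := hI.fixed (d i) h1
    have hu : IsUnit (d i) := Pi.isUnit_iff.1 (Matrix.isUnit_diagonal.1 hD.1) i
    have hxu : IsUnit x := by
      by_contra hx'
      have := hI.isIntegral
      obtain ⟨M, hM, hle⟩ := exists_max_ideal_of_mem_nonunits (show d i * 0 ∈ nonunits (Hull S C ⊗[S] R) by
        have := hI.nontrivial; simp)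
      have hc := hI.comap_eq_maximalIdeal M
      exact hM.ne_top (M.eq_top_of_isUnit_mem (by
        rw [← hx]
        show x ∈ M.comap (algebraMap (Hull S C) (Hull S C ⊗[S] R))
        rw [hc]; exact hx') hu)
    obtain ⟨y, hyu, hy⟩ := exists_sqrt C hsq hxu
    exact ⟨y, hyu, by rw [hy, hx]⟩
  choose y hyu hy using hy
  choose yi hyi using fun i => (hyu i).exists_right_inv
  refine hD.cong ⟨Matrix.diagonal fun i => algebraMap (Hull S C) (Hull S C ⊗[S] R) (yi i), ?_, ?_⟩
  · exact Matrix.isUnit_diagonal.2 (Pi.isUnit_iff.2 fun i =>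
      (IsUnit.of_mul_eq_one_right _ (hyi i)).map _)
  · rw [show st μ (Matrix.diagonal fun i => algebraMap (Hull S C) (Hull S C ⊗[S] R) (yi i)) =
      Matrix.diagonal fun i => algebraMap (Hull S C) (Hull S C ⊗[S] R) (yi i) from by
        rw [st, Matrix.diagonal_map (map_zero μ), Matrix.diagonal_transpose]
        exact congrArg _ (funext fun i => (lamT S lam (Hull S C)).commutes (yi i)),
      Matrix.diagonal_mul_diagonal, Matrix.diagonal_mul_diagonal, ← Matrix.diagonal_one]
    congr 1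
    funext i
    rw [← hy, ← map_mul, ← map_mul, show yi i * (y i * y i) * yi i = (y i * yi i) * (y i * yi i) by ring, hyi,
      one_mul, map_one]

variable [IsAzumaya R A]

/-- Split case, or odd degree: the neutral type. -/
theorem std_one_hull (t : AzInv.LamInv R A lam) (hlam : ∀ r, lam (lam r) = r)
    (hfix : RInv.IsFixedRing S R lam.toRingEquiv) (hsq : HasSqrts S) {n : ℕ} (hn : 0 < n)
    (hrk : ∀ p : PrimeSpectrum R, Module.rankAtStalk A p = n ^ 2)
    (h : (∃ e : Hull S C ⊗[S] R, IsIdempotentElem e ∧ lamT S lam (Hull S C) e = 1 - e) ∨ Odd n) :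
    Std S lam (Hull S C) t (1 : Matrix (Fin n) (Fin n) (Hull S C)) 1 := by
  have hH : HenselianLocalRing (Hull S C) := hull_henselian
  have : IsSepClosed (IsLocalRing.ResidueField (Hull S C)) := hull_isSepClosed
  have hI := isInvol_hull C hlam hfix
  refine HasForm.std (one_mul 1) ?_
  rw [Matrix.map_one _ (map_zero _) (map_one _)]
  obtain ⟨w, ε, hε, hw, hu, hf⟩ := exists_hasForm_hull C t hlam hfix hn hrk
  rcases hI.henselian_cases with ⟨hloc, -, -, htriv⟩ | ⟨e, he, hle⟩
  swap
  · exact hasForm_one_of_split C hlam hε hw hf he hle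
  rcases h with ⟨e, he, hle⟩ | hodd
  · exact hasForm_one_of_split C hlam hε hw hf he hle
  -- odd degree: rescale to a hermitian form
  obtain ⟨k, hk⟩ := hodd
  have hμμ : ∀ z, μ (μ z) = z := fun z => lamT_invol S lam (Hull S C) hlam z
  have hdu : IsUnit w.det := (Matrix.isUnit_iff_isUnit_det _).1 hu
  have hdet : ε ^ n * μ w.det = w.det := by
    conv_rhs => rw [← show ε • st μ w = w from hw, Matrix.det_smul, Fintype.card_fin, st, Matrix.det_transpose]
    rw [RingHom.map_det]; rfl
  have hεu : IsUnit ε := IsUnit.of_mul_eq_one_right _ hε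
  let x := μ (w.det) * ε ^ k
  have hxu : IsUnit x := (hdu.map _).mul (hεu.pow k)
  have hx : μ x = x * ε := by
    show μ (μ w.det * ε ^ k) = μ w.det * ε ^ k * ε
    rw [map_mul, map_pow, hμμ]
    calc w.det * μ ε ^ k = ε ^ n * μ w.det * μ ε ^ k := by rw [hdet]
      _ = μ w.det * ε ^ k * ε * (μ ε * ε) ^ k := by rw [show ε ^ n = ε ^ (2 * k + 1) by rw [hk], mul_pow]; ring
      _ = _ := by rw [hε, one_pow, mul_one]
  have hw1 : IsForm μ 1 (x • w) := by
    show (1 : Hull S C ⊗[S] R) • st μ (x • w) = x • w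
    rw [one_smul, st_smul, hx, mul_smul, show ε • st μ w = w from hw]
  exact hasForm_one_of_diagonal C hlam hfix hsq hw1 (hf.smul hxu)
    (hI.diagonalizable (by simp) _ hw1 (hf.smul hxu).1 (Or.inr (Or.inr (by rw [Fintype.card_fin]; exact ⟨k, hk⟩))))

/-- `2` invertible: one of the two types. -/
theorem std_one_or_alt_hull (t : AzInv.LamInv R A lam) (hlam : ∀ r, lam (lam r) = r)
    (hfix : RInv.IsFixedRing S R lam.toRingEquiv) (hsq : HasSqrts S) (h2 : IsUnit (2 : S)) {n : ℕ} (hn : 0 < n)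
    (hrk : ∀ p : PrimeSpectrum R, Module.rankAtStalk A p = n ^ 2) :
    Std S lam (Hull S C) t (1 : Matrix (Fin n) (Fin n) (Hull S C)) 1 ∨
      ∃ (k : ℕ) (_ : Fin n ≃ Fin 2 × Fin k),
        Std S lam (Hull S C) t (altJ k (Hull S C)) (-altJ k (Hull S C)) := by
  have hH : HenselianLocalRing (Hull S C) := hull_henselian
  have : IsSepClosed (IsLocalRing.ResidueField (Hull S C)) := hull_isSepClosed
  have hI := isInvol_hull C hlam hfix
  rcases hI.henselian_cases with ⟨hloc, -, -, htriv⟩ | ⟨e, he, hle⟩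
  swap
  · exact Or.inl (std_one_hull C t hlam hfix hsq hn hrk (Or.inl ⟨e, he, hle⟩))
  obtain ⟨w, ε, hε, hw, hu, hf⟩ := exists_hasForm_hull C t hlam hfix hn hrk
  have hμμ : ∀ z, μ (μ z) = z := fun z => lamT_invol S lam (Hull S C) hlam z
  have h2R : IsUnit (2 : Hull S C ⊗[S] R) := by
    have := (h2.map (algebraMap S (Hull S C))).map (algebraMap (Hull S C) (Hull S C ⊗[S] R))
    rwa [map_ofNat, map_ofNat] at this
  have hstw : st μ w = μ ε • w := by
    conv_rhs => rw [← show ε • st μ w = w from hw, smul_smul, hε, one_smul]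
  have hsum : IsUnit (1 + μ ε) ∨ IsUnit (1 - μ ε) := IsLocalRing.isUnit_or_isUnit_of_isUnit_add (by
    rw [show 1 + μ ε + (1 - μ ε) = 2 by ring]; exact h2R)
  rcases hsum with hp | hm
  · -- hermitian
    left
    refine HasForm.std (one_mul 1) ?_
    rw [Matrix.map_one _ (map_zero _) (map_one _)]
    have hw1 : IsForm μ 1 ((1 + μ ε) • w) := by
      show (1 : Hull S C ⊗[S] R) • st μ ((1 + μ ε) • w) = _
      rw [one_smul, st_smul, hstw, smul_smul, map_add, map_one, hμμ]
      congr 1
      linear_combination hε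
    refine hasForm_one_of_diagonal C hlam hfix hsq hw1 (hf.smul hp)
      (hI.diagonalizable (by simp) _ hw1 (hf.smul hp).1 (Or.inr (Or.inl fun hj => ?_)))
    rw [IsLocalRing.ringJacobson_eq_maximalIdeal, one_add_one_eq_two] at hj
    exact (IsLocalRing.notMem_maximalIdeal.2 h2R) hj
  · -- skew hermitian
    right
    have hw1 : IsForm μ (-1) ((1 - μ ε) • w) := by
      show (-1 : Hull S C ⊗[S] R) • st μ ((1 - μ ε) • w) = _
      rw [st_smul, hstw, smul_smul, smul_smul, map_sub, map_one, hμμ]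
      congr 1
      linear_combination hε
    obtain ⟨m, e, B, hB, hc⟩ := exists_blocks hμμ (ε := -1) (by simp) h2R
      (by rw [add_neg_cancel]; exact zero_mem _) htriv _ hw1 (hf.smul hm).1
    refine ⟨m, e, HasForm.std (altJ_mul_neg m _) ?_⟩
    rw [altJ_map]
    have hBf := hc.isForm hμμ (show IsForm μ (-1) (Matrix.reindex e e ((1 - μ ε) • w)) by
      show _ • st μ _ = _
      refine Matrix.ext fun i j => ?_
      exact congrFun (congrFun hw1 (e.symm i)) (e.symm j))
    refine ((hf.smul hm).reindex e).cong (hc.trans (Cong.blockDiagonal fun k => ?_))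
    obtain ⟨ha, hb, h01⟩ := hB k
    have happ : ∀ i j, -μ (B k j i) = B k i j := fun i j => by
      simpa [Matrix.blockDiagonal_apply] using hBf.apply (i, k) (j, k)
    have hBk : B k = !![B k 0 0, 1; -1, B k 1 1] := by
      ext i j
      fin_cases i <;> fin_cases j <;> simp [h01]
      rw [← happ 1 0, h01, map_one]
    rw [hBk]
    set a := B k 0 0 with hadef
    set b := B k 1 1 with hbdef
    have hla : μ a = -a := by rw [hadef]; conv_rhs => rw [← happ 0 0, neg_neg]
    have hlb : μ b = -b := by rw [hbdef]; conv_rhs => rw [← happ 1 1, neg_neg]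
    obtain ⟨x, hx⟩ := hI.fixed (1 + a * b) (by
      show μ (1 + a * b) = _
      rw [map_add, map_one, map_mul, hla, hlb, neg_mul_neg])
    have habu : IsUnit (1 + a * b) := by
      refine IsLocalRing.notMem_maximalIdeal.1 fun hmem => ?_
      have := sub_mem hmem (Ideal.mul_mem_right b _ ha)
      rw [add_sub_cancel_right] at this
      exact (IsLocalRing.notMem_maximalIdeal.2 isUnit_one) this
    have hxu : IsUnit x := by
      by_contra hx'
      have := hI.isIntegral
      exact (IsLocalRing.notMem_maximalIdeal.2 habu) (by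
        rw [← hx]
        show x ∈ (IsLocalRing.maximalIdeal _).comap (algebraMap (Hull S C) (Hull S C ⊗[S] R))
        rw [hI.comap_eq_maximalIdeal]; exact hx')
    obtain ⟨y, hyu, hy⟩ := exists_sqrt C hsq hxu
    set Y := algebraMap (Hull S C) (Hull S C ⊗[S] R) y with hY
    have hYY : Y * Y = 1 + a * b := by rw [← map_mul, hy, hx]
    have hμY : μ Y = Y := (lamT S lam (Hull S C)).commutes y
    have hYu : IsUnit Y := hyu.map _
    rcases IsLocalRing.isUnit_or_isUnit_of_isUnit_add (a := 1 + Y) (b := 1 - Y)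
      (by rw [show 1 + Y + (1 - Y) = 2 by ring]; exact h2R) with h1 | h1
    · exact cong_alt2 hla hlb hμY hYY h2R hYu h1
    · exact cong_alt2 hla hlb (y := -Y) (by rw [map_neg, hμY]) (by rw [neg_mul_neg, hYY]) h2R hYu.neg
        (by rwa [← sub_eq_add_neg])

/-- The two types exclude each other at a ramified point with `2` invertible. -/
theorem not_std_one_and_alt (hlam : ∀ r, lam (lam r) = r) (hfix : RInv.IsFixedRing S R lam.toRingEquiv)
    (h2 : IsUnit (2 : S)) [IsLocalRing (Hull S C ⊗[S] R)]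
    (htriv : ∀ z, lamT S lam (Hull S C) z - z ∈ IsLocalRing.maximalIdeal (Hull S C ⊗[S] R))
    {n : ℕ} (hrk : ∀ p : PrimeSpectrum R, Module.rankAtStalk A p = n ^ 2) {k : ℕ} (hk : 2 * k = n) (hn : 0 < n)
    (h1 : Std S lam (Hull S C) t (1 : Matrix (Fin n) (Fin n) (Hull S C)) 1)
    (hJ : Std S lam (Hull S C) t (altJ k (Hull S C)) (-altJ k (Hull S C))) : False := by
  have : Nonempty (Fin n) := ⟨⟨0, hn⟩⟩
  have : Nonempty (Fin 2 × Fin k) := ⟨(0, ⟨0, by omega⟩)⟩
  have := finite_maximalSpectrum_hull C hlam hfix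
  have e : Fin n ≃ Fin 2 × Fin k := (Fin.castOrderIso hk.symm).toEquiv.trans finProdFinEquiv.symm
  have h1' := (h1.hasForm (one_mul 1) (one_mul 1) (rankAtStalk_base_eq hrk _ (Fintype.card_fin n))).reindex e
  have hJ' := hJ.hasForm (altJ_mul_neg k _) (neg_altJ_mul k _) (rankAtStalk_base_eq hrk _ (by simp [hk]))
  rw [Matrix.map_one _ (map_zero _) (map_one _), Matrix.reindex_apply, Matrix.submatrix_one_equiv] at h1'
  rw [altJ_map] at hJ'
  obtain ⟨g, r, hg, hgr⟩ := HasForm.similar hlam h1' hJ'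
  rw [Matrix.mul_one] at hgr
  have hru : IsUnit r := by
    have hu : IsUnit (r • altJ k (Hull S C ⊗[S] R)) := hgr ▸ hg.mul (isUnit_st μ hg)
    rw [Matrix.isUnit_iff_isUnit_det, Matrix.det_smul, IsUnit.mul_iff] at hu
    exact (isUnit_pow_iff Fintype.card_ne_zero).1 hu.1
  have h := congrArg (st μ) hgr
  rw [st_mul, st_st hlam, hgr, st_smul, st_altJ, smul_neg] at h
  have h0 : r = -μ r := by
    have := congrFun (congrFun h (0, ⟨0, by omega⟩)) (1, ⟨0, by omega⟩)
    simpa [altJ, alt2] using this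
  have h2R : IsUnit (2 : Hull S C ⊗[S] R) := by
    have := (h2.map (algebraMap S (Hull S C))).map (algebraMap (Hull S C) (Hull S C ⊗[S] R))
    rwa [map_ofNat, map_ofNat] at this
  have hmem := htriv r
  rw [show lamT S lam (Hull S C) r - r = -(2 * r) from by
    show μ r - r = _
    conv_rhs => rw [two_mul]; arg 1; arg 1; rw [h0]
    ring, neg_mem_iff] at hmem
  exact (IsLocalRing.notMem_maximalIdeal.2 (h2R.mul hru)) hmem

end GrothLib.AzInvol
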