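import Groth.Agent.Lib.AzInvol.HullClass

set_option autoImplicit false

/-!
# Loci of standard forms and gluing over etale covers
-/

universe u v w w'

open scoped TensorProduct
open GrothLib.AzMod GrothLib.RInvol GrothLib.RInvol.Forms GrothLib.Hensel Matrix

namespace GrothLib.AzInvol

attribute [local instance] Algebra.TensorProduct.rightAlgebra scalarAlgebra

variable {S : Type u} {R : Type v} [CommRing S] [CommRing R] [Algebra S R]
  {lam : R ≃ₐ[S] R} {A : Type w} [Ring A] [Algebra S A] [Algebra R A] [IsScalarTower S R A]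

/-- The algebraically closed field of a point. -/
abbrev geomField (p : PrimeSpectrum S) : Type u := AlgebraicClosure p.asIdeal.ResidueField

theorem ker_geomField (p : PrimeSpectrum S) : RingHom.ker (algebraMap S (geomField p)) = p.asIdeal := by
  ext s
  rw [RingHom.mem_ker, IsScalarTower.algebraMap_apply S p.asIdeal.ResidueField (geomField p),
    map_eq_zero_iff _ (RingHom.injective _), Ideal.algebraMap_residueField_eq_zero]

variable {ι : Type} [Fintype ι] [DecidableEq ι]

/-- The locus where `t` is of standard form `w`. -/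
def Locus (t : AzInv.LamInv R A lam) (w wi : Matrix ι ι S) : Set (PrimeSpectrum S) :=
  {p | ∃ (T : Type u) (_ : CommRing T) (_ : Algebra S T), Algebra.Etale S T ∧
    p ∈ Set.range (PrimeSpectrum.comap (algebraMap S T)) ∧
    Std S lam T t (w.map (algebraMap S T)) (wi.map (algebraMap S T))}

variable {t : AzInv.LamInv R A lam}

theorem range_subset_locus {w wi : Matrix ι ι S} (T : Type u) [CommRing T] [Algebra S T] (hT : Algebra.Etale S T)
    (h : Std S lam T t (w.map (algebraMap S T)) (wi.map (algebraMap S T))) :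
    Set.range (PrimeSpectrum.comap (algebraMap S T)) ⊆ Locus t w wi :=
  fun _ hp => ⟨T, _, _, hT, hp, h⟩

theorem isOpen_locus (w wi : Matrix ι ι S) : IsOpen (Locus t w wi) := by
  rw [isOpen_iff_forall_mem_open]
  rintro p ⟨T, _, _, hT, hp, h⟩
  exact ⟨_, range_subset_locus T hT h,
    (PrimeSpectrum.isOpenMap_comap_of_hasGoingDown_of_finitePresentation (R := S) (S := T)).isOpen_range, hp⟩

theorem map_algebraMap_eq {T T' : Type u} [CommRing T] [Algebra S T] [CommRing T'] [Algebra S T'] (g : T →ₐ[S] T')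
    (w : Matrix ι ι S) : (w.map (algebraMap S T)).map g = w.map (algebraMap S T') := by
  ext i j; simp

theorem std_hull_of_mem {w wi : Matrix ι ι S} {p : PrimeSpectrum S} (hp : p ∈ Locus t w wi)
    (C : Type u) [Field C] [IsAlgClosed C] [Algebra S C] (hC : RingHom.ker (algebraMap S C) = p.asIdeal) :
    Std S lam (Hull S C) t (w.map (algebraMap S (Hull S C))) (wi.map (algebraMap S (Hull S C))) := by
  obtain ⟨T, _, _, hT, hr, h⟩ := hp
  obtain ⟨φ⟩ := exists_point (C := C) (T := T) p hC hr
  have := h.map (Hull.of φ)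
  rwa [map_algebraMap_eq, map_algebraMap_eq] at this

theorem mem_locus_of_hull {w wi : Matrix ι ι S} {p : PrimeSpectrum S}
    {C : Type u} [Field C] [Algebra S C] (hC : RingHom.ker (algebraMap S C) = p.asIdeal)
    (h : Std S lam (Hull S C) t (w.map (algebraMap S (Hull S C))) (wi.map (algebraMap S (Hull S C)))) :
    p ∈ Locus t w wi := by
  classical
  obtain ⟨E, hE, hE1, hEt⟩ := h
  obtain ⟨N, y, hy⟩ := exists_stage_family (fun q : ι × ι => E q.1 q.2)
  let φ := fun (M : Nbhd S C) => Algebra.TensorProduct.map (Hull.ι M) (AlgHom.id S A)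
  have hφ : ∀ (M : Nbhd S C) (z : M.Ring ⊗[S] A), (Hull.ι M).toLinearMap.rTensor A z = φ M z := fun M z => rfl
  have hyy : ∀ q, φ N (y q) = E q.1 q.2 := fun q => (hφ N (y q)).symm.trans (hy q)
  have hEt' : ∀ i j, t.bc S lam (Hull S C) (E i j) = ∑ k, ∑ l, (w k j * wi i l) • E k l := fun i j => by
    rw [hEt]; simp only [Matrix.map_apply, ← map_mul, algebraMap_smul]
  let rel : ((ι × ι) × (ι × ι) ⊕ Unit) ⊕ (ι × ι) → N.Ring ⊗[S] A :=
    Sum.elim (Sum.elim (fun q => y q.1 * y q.2 - if q.1.2 = q.2.1 then y (q.1.1, q.2.2) else 0)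
      (fun _ => ∑ i, y (i, i) - 1))
      fun q => t.bc S lam N.Ring (y q) - ∑ k, ∑ l, (w k q.2 * wi q.1 l) • y (k, l)
  obtain ⟨M, g, hg⟩ := exists_stage_zero_family Finset.univ rel (by
    rintro ((⟨⟨i, j⟩, ⟨k, l⟩⟩ | u) | ⟨i, j⟩) -
    · simp only [rel, Sum.elim_inl]
      rw [hφ, map_sub, map_mul, hyy, hyy, hE, sub_eq_zero]
      split_ifs with h
      · rw [hyy]
      · rw [map_zero]
    · simp only [rel, Sum.elim_inl, Sum.elim_inr]
      rw [hφ, map_sub, map_sum, map_one, sub_eq_zero, ← hE1]
      exact Finset.sum_congr rfl fun i _ => hyy (i, i)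
    · simp only [rel, Sum.elim_inr]
      rw [hφ, map_sub, sub_eq_zero, bc_map, hyy, hEt']
      simp only [map_sum, map_smul, hyy])
  let ψ := Algebra.TensorProduct.map g.map (AlgHom.id S A)
  have hg' : ∀ r, ψ (rel r) = 0 := fun r => hg r (Finset.mem_univ r)
  refine ⟨M.Ring, inferInstance, inferInstance, inferInstance,
    ⟨⟨RingHom.ker M.pt.toRingHom, RingHom.ker_isPrime _⟩, ?_⟩,
    fun i j => ψ (y (i, j)), fun i j k l => ?_, ?_, fun i j => ?_⟩
  · refine PrimeSpectrum.ext (Ideal.ext fun s => ?_)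
    show M.pt (algebraMap S M.Ring s) = 0 ↔ _
    rw [M.pt.commutes, ← RingHom.mem_ker, hC]
  · have h := hg' (Sum.inl (Sum.inl ((i, j), (k, l))))
    simp only [rel, Sum.elim_inl, map_sub, map_mul, sub_eq_zero] at h
    rw [h]
    split_ifs with hjk
    · rfl
    · rw [map_zero]
  · have h := hg' (Sum.inl (Sum.inr ()))
    simp only [rel, Sum.elim_inl, Sum.elim_inr, map_sub, map_sum, map_one, sub_eq_zero] at h
    exact h
  · have h := hg' (Sum.inr (i, j))
    simp only [rel, Sum.elim_inr, map_sub, sub_eq_zero, map_sum, map_smul] at h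
    rw [← bc_map, h]
    simp only [Matrix.map_apply, ← map_mul, algebraMap_smul]

/-- Standard forms glue over finite products. -/
theorem Std.pi {κ : Type u} [Fintype κ] [DecidableEq κ] (T : κ → Type u) [∀ c, CommRing (T c)]
    [∀ c, Algebra S (T c)] (w wi : ∀ c, Matrix ι ι (T c)) (h : ∀ c, Std S lam (T c) t (w c) (wi c)) :
    Std S lam (∀ c, T c) t (Matrix.of fun i j c => w c i j) (Matrix.of fun i j c => wi c i j) := by
  choose E hE hE1 hEt using h
  let inc : ∀ c, T c ⊗[S] A →ₗ[S] (∀ c, T c) ⊗[S] A := fun c => (LinearMap.single S T c).rTensor A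
  have hinc : ∀ c d (a : T c ⊗[S] A) (b : T d ⊗[S] A), c ≠ d → inc c a * inc d b = 0 := fun c d a b hcd => by
    induction a using TensorProduct.induction_on with
    | zero => simp
    | add p q hp hq => rw [map_add, add_mul, hp, hq, add_zero]
    | tmul s x =>
      induction b using TensorProduct.induction_on with
      | zero => simp
      | add p q hp hq => rw [map_add, mul_add, hp, hq, add_zero]
      | tmul s' x' =>
        simp only [inc, LinearMap.rTensor_tmul, LinearMap.coe_single, Algebra.TensorProduct.tmul_mul_tmul]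
        rw [show (Pi.single c s : ∀ c, T c) * Pi.single d s' = 0 from funext fun l => by
          show (Pi.single c s : ∀ c, T c) l * (Pi.single d s' : ∀ c, T c) l = 0
          rcases eq_or_ne l c with rfl | hl
          · rw [Pi.single_eq_of_ne hcd, mul_zero]
          · rw [Pi.single_eq_of_ne hl, zero_mul], TensorProduct.zero_tmul]
  have hinc' : ∀ c (a b : T c ⊗[S] A), inc c a * inc c b = inc c (a * b) := fun c a b => by
    induction a using TensorProduct.induction_on with
    | zero => simp
    | add p q hp hq => rw [map_add, add_mul, hp, hq, add_mul, map_add]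
    | tmul s x =>
      induction b using TensorProduct.induction_on with
      | zero => simp
      | add p q hp hq => rw [map_add, mul_add, hp, hq, mul_add, map_add]
      | tmul s' x' => simp [inc, Algebra.TensorProduct.tmul_mul_tmul, Pi.single_mul]
  have hsmul : ∀ c (a : ∀ c, T c) (x : T c ⊗[S] A), a • inc c x = inc c (a c • x) := fun c a x => by
    induction x using TensorProduct.induction_on with
    | zero => simp
    | add p q hp hq => rw [map_add, smul_add, hp, hq, smul_add, map_add]
    | tmul s x =>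
      simp only [inc, LinearMap.rTensor_tmul, LinearMap.coe_single, TensorProduct.smul_tmul', smul_eq_mul]
      congr 1
      funext l
      rcases eq_or_ne l c with rfl | hl
      · simp
      · simp [Pi.single_eq_of_ne hl]
  have hbc : ∀ c (x : T c ⊗[S] A), t.bc S lam (∀ c, T c) (inc c x) = inc c (t.bc S lam (T c) x) := fun c x => by
    induction x using TensorProduct.induction_on with
    | zero => simp
    | add p q hp hq => simp only [map_add, hp, hq]
    | tmul s x => simp [inc]
  refine ⟨fun i j => ∑ c, inc c (E c i j), fun i j k l => ?_, ?_, fun i j => ?_⟩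
  · rw [Finset.sum_mul]
    refine (Finset.sum_congr rfl fun c _ => (Finset.mul_sum _ _ _).trans
      (Finset.sum_eq_single c (fun d _ hd => hinc c d _ _ hd.symm) (fun h => absurd (Finset.mem_univ c) h))).trans ?_
    simp only [hinc', hE]
    split_ifs with h
    · rfl
    · simp
  · rw [Finset.sum_comm]
    simp only [← map_sum, hE1, Algebra.TensorProduct.one_def, inc, LinearMap.rTensor_tmul, LinearMap.coe_single]
    rw [← TensorProduct.sum_tmul, Finset.univ_sum_single]
    rfl
  · simp only [map_sum, hbc, hEt, Finset.smul_sum, hsmul, Matrix.of_apply, Pi.mul_apply]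
    rw [Finset.sum_comm]
    exact Finset.sum_congr rfl fun k _ => Finset.sum_comm

theorem exists_finite_cover (T : PrimeSpectrum S → Type u) [∀ p, CommRing (T p)] [∀ p, Algebra S (T p)]
    (hT : ∀ p, Algebra.Etale S (T p)) (hp : ∀ p, p ∈ Set.range (PrimeSpectrum.comap (algebraMap S (T p)))) :
    ∃ (κ : Type u) (_ : Fintype κ) (_ : DecidableEq κ) (c : κ → PrimeSpectrum S),
      Algebra.Etale S (∀ i, T (c i)) ∧ Module.FaithfullyFlat S (∀ i, T (c i)) := by
  classical
  have hopen : ∀ p, IsOpen (Set.range (PrimeSpectrum.comap (algebraMap S (T p)))) := fun p => by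
    have := hT p
    exact (PrimeSpectrum.isOpenMap_comap_of_hasGoingDown_of_finitePresentation (R := S) (S := T p)).isOpen_range
  obtain ⟨s, hs⟩ := isCompact_univ.elim_finite_subcover _ hopen fun p _ => Set.mem_iUnion.2 ⟨p, hp p⟩
  refine ⟨↥s, inferInstance, inferInstance, Subtype.val, ?_, ?_⟩
  · have : ∀ i : ↥s, Algebra.Etale S (T i) := fun i => hT i
    infer_instance
  · have hflat : ∀ i : ↥s, Module.Flat S (T i) := fun i => by have := hT i; infer_instance
    have : Module.Flat S (∀ i : ↥s, T i) :=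
      Module.Flat.of_linearEquiv (DirectSum.linearEquivFunOnFintype S ↥s fun i : ↥s => T i).symm
    refine Module.FaithfullyFlat.of_comap_surjective fun p => ?_
    obtain ⟨i, hi, q, hq⟩ := Set.mem_iUnion₂.1 (hs (Set.mem_univ p))
    exact ⟨PrimeSpectrum.comap (Pi.evalRingHom (fun i : ↥s => T i) ⟨i, hi⟩) q, hq ▸ PrimeSpectrum.ext rfl⟩

variable {A' : Type w'} [Ring A'] [Algebra S A'] [Algebra R A'] [IsScalarTower S R A']
  {t' : AzInv.LamInv R A' lam}

theorem locIsoEt_of_pieces [IsAzumaya R A] [IsAzumaya R A'] {N : ℕ} (hN : 0 < N)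
    (hrk : ∀ p : PrimeSpectrum R, Module.rankAtStalk A p = N ^ 2)
    (hrk' : ∀ p : PrimeSpectrum R, Module.rankAtStalk A' p = N ^ 2)
    (h : ∀ p : PrimeSpectrum S, ∃ (T : Type u) (_ : CommRing T) (_ : Algebra S T), Algebra.Etale S T ∧
      p ∈ Set.range (PrimeSpectrum.comap (algebraMap S T)) ∧
      ∃ w wi : Matrix (Fin N) (Fin N) T, Std S lam T t w wi ∧ Std S lam T t' w wi) :
    AzInv.LocIsoEt S lam t t' := by
  choose T hT1 hT2 hTe hTp w wi hw hw' using h
  obtain ⟨κ, _, _, c, hcE, hcF⟩ := exists_finite_cover T hTe hTp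
  have h1 := Std.pi (fun i => T (c i)) (fun i => w (c i)) (fun i => wi (c i)) fun i => hw (c i)
  have h2 := Std.pi (fun i => T (c i)) (fun i => w (c i)) (fun i => wi (c i)) fun i => hw' (c i)
  have : Nonempty (Fin N) := ⟨⟨0, hN⟩⟩
  obtain ⟨f, hf1, hf2⟩ := h1.exists_iso h2 (rankAtStalk_base_eq hrk _ (Fintype.card_fin N))
    (rankAtStalk_base_eq hrk' _ (Fintype.card_fin N))
  exact ⟨_, inferInstance, inferInstance, hcE, hcF, f, hf1, hf2⟩

/-- A common standard form everywhere gives a local isomorphism. -/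
theorem locIsoEt_of_forall_locus [IsAzumaya R A] [IsAzumaya R A'] {N : ℕ} (hN : 0 < N)
    (hrk : ∀ p : PrimeSpectrum R, Module.rankAtStalk A p = N ^ 2)
    (hrk' : ∀ p : PrimeSpectrum R, Module.rankAtStalk A' p = N ^ 2)
    (h : ∀ p : PrimeSpectrum S, ∃ (κ : Type) (_ : Fintype κ) (_ : DecidableEq κ) (_ : κ ≃ Fin N)
      (w wi : Matrix κ κ S), p ∈ Locus t w wi ∧ p ∈ Locus t' w wi) :
    AzInv.LocIsoEt S lam t t' := by
  refine locIsoEt_of_pieces hN hrk hrk' fun p => ?_
  obtain ⟨κ, _, _, e, w, wi, ⟨T, _, _, hT, hpT, h1⟩, ⟨T', _, _, hT', hpT', h2⟩⟩ := h p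
  obtain ⟨φ⟩ := exists_point (C := geomField p) (T := T) p (ker_geomField p) hpT
  obtain ⟨φ'⟩ := exists_point (C := geomField p) (T := T') p (ker_geomField p) hpT'
  let ψ : T ⊗[S] T' →ₐ[S] geomField p := Algebra.TensorProduct.lift φ φ' fun _ _ => Commute.all _ _
  refine ⟨T ⊗[S] T', inferInstance, inferInstance, Algebra.Etale.comp S T _,
    ⟨⟨RingHom.ker ψ.toRingHom, RingHom.ker_isPrime _⟩, PrimeSpectrum.ext (Ideal.ext fun s => ?_)⟩,
    Matrix.reindex e e (w.map (algebraMap S (T ⊗[S] T'))), Matrix.reindex e e (wi.map (algebraMap S (T ⊗[S] T'))), ?_, ?_⟩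
  · show ψ (algebraMap S (T ⊗[S] T') s) = 0 ↔ _
    rw [ψ.commutes, ← RingHom.mem_ker, ker_geomField]
  · have h := (h1.map (Algebra.TensorProduct.includeLeft : T →ₐ[S] T ⊗[S] T')).reindex e
    rwa [map_algebraMap_eq, map_algebraMap_eq] at h
  · have h := (h2.map (Algebra.TensorProduct.includeRight : T' →ₐ[S] T ⊗[S] T')).reindex e
    rwa [map_algebraMap_eq, map_algebraMap_eq] at h

end GrothLib.AzInvol
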