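import Groth.Agent.Lib.AzInvol.Types
import Groth.Agent.Lib.Involution.Dims
import Mathlib.RingTheory.TensorProduct.Maps

set_option autoImplicit false

/-!
# The sign at a ramified prime
-/

universe u v w

open scoped TensorProduct
open GrothLib.AzMod GrothLib.RInvol GrothLib.RInvol.Forms Matrix

namespace GrothLib.AzInvol

attribute [local instance] Algebra.TensorProduct.rightAlgebra scalarAlgebra

variable {S : Type u} {R : Type v} [CommRing S] [CommRing R] [Algebra S R] {lam : R ≃ₐ[S] R}
  {A : Type w} [Ring A] [Algebra S A] [Algebra R A] [IsScalarTower S R A]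

/-- The span of the symmetric elements in the fibre at `q`. -/
noncomputable abbrev symSpan (t : AzInv.LamInv R A lam) (q : PrimeSpectrum R) :
    Submodule q.asIdeal.ResidueField (q.asIdeal.ResidueField ⊗[R] A) :=
  Submodule.span q.asIdeal.ResidueField
    (Set.range fun a : {a : A // t a = a} => (1 : q.asIdeal.ResidueField) ⊗ₜ[R] (a : A))

variable [IsAzumaya R A] {t : AzInv.LamInv R A lam}

theorem finrank_symSpan_of_std (h2 : IsUnit (2 : S)) {n : ℕ} (hn : 0 < n)
    (hrk : ∀ p : PrimeSpectrum R, Module.rankAtStalk A p = n ^ 2) (q : PrimeSpectrum R)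
    (hq : ∀ r : R, lam r - r ∈ q.asIdeal) (T : Type u) [CommRing T] [Algebra S T] [Algebra.Etale S T]
    (hT : PrimeSpectrum.comap (algebraMap S R) q ∈ Set.range (PrimeSpectrum.comap (algebraMap S T)))
    (w wi : Matrix (Fin n) (Fin n) S) (hw1 : w * wi = 1) (ε : S) (hε : ε = 1 ∨ ε = -1)
    (hwt : wi.transpose = ε • wi)
    (h : Std S lam T t (w.map (algebraMap S T)) (wi.map (algebraMap S T))) :
    (ε = 1 → Module.finrank q.asIdeal.ResidueField (symSpan t q) = (n + 1).choose 2) ∧
      (ε = -1 → Module.finrank q.asIdeal.ResidueField (symSpan t q) = n.choose 2) := by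
  classical
  have : Nonempty (Fin n) := ⟨⟨0, hn⟩⟩
  let k := q.asIdeal.ResidueField
  let L := AlgebraicClosure k
  have hσ : ∀ r : R, algebraMap R L (lam r) = algebraMap R L r := fun r => by
    rw [← sub_eq_zero, ← map_sub, IsScalarTower.algebraMap_apply R k L,
      Ideal.algebraMap_residueField_eq_zero.2 (hq r), map_zero]
  have hker : RingHom.ker (algebraMap S L) = (PrimeSpectrum.comap (algebraMap S R) q).asIdeal := by
    ext s
    rw [RingHom.mem_ker, IsScalarTower.algebraMap_apply S R L, IsScalarTower.algebraMap_apply R k L,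
      map_eq_zero_iff _ (RingHom.injective _), Ideal.algebraMap_residueField_eq_zero]
    rfl
  obtain ⟨φ⟩ := exists_point (C := L) (T := T) _ hker hT
  let ρ : T ⊗[S] R →ₐ[S] L :=
    Algebra.TensorProduct.lift φ (IsScalarTower.toAlgHom S R L) fun _ _ => Commute.all _ _
  have hρ : ∀ z, ρ (lamT S lam T z) = ρ z := fun z => by
    induction z using TensorProduct.induction_on with
    | zero => simp
    | add a b ha hb => rw [map_add, map_add, map_add, ha, hb]
    | tmul c r => simp [ρ, lamT_tmul, hσ]
  have h2k : (2 : k) ≠ 0 := by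
    have := ((h2.map (algebraMap S R)).map (algebraMap R k)).ne_zero
    rwa [map_ofNat, map_ofNat] at this
  obtain ⟨f, hf⟩ := h.exists_equiv (rankAtStalk_base_eq hrk T (Fintype.card_fin n))
  -- the fibre and its involution
  let t₀ : A →ₗ[R] k ⊗[R] A :=
    { toFun := fun a => (1 : k) ⊗ₜ t a
      map_add' := fun a b => by rw [t.map_add, TensorProduct.tmul_add]
      map_smul' := fun r a => by
        rw [RingHom.id_apply, t.map_smul, TensorProduct.tmul_smul]
        rw [← algebraMap_smul k (lam r), ← algebraMap_smul k r]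
        congr 1
        rw [← sub_eq_zero, ← map_sub]
        exact Ideal.algebraMap_residueField_eq_zero.2 (hq r) }
  let s : k ⊗[R] A →ₗ[k] k ⊗[R] A := t₀.liftBaseChange k
  have hs : ∀ (c : k) (a : A), s (c ⊗ₜ a) = c ⊗ₜ t a := fun c a => by
    simp [s, t₀, TensorProduct.smul_tmul']
  have hss : ∀ x, s (s x) = x := fun x => by
    induction x using TensorProduct.induction_on with
    | zero => simp
    | add a b ha hb => rw [map_add, map_add, ha, hb]
    | tmul c a => rw [hs, hs, t.invol]
  have hspan : symSpan t q = LinearMap.ker (s - LinearMap.id) := by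
    refine le_antisymm (Submodule.span_le.2 ?_) fun z hz => ?_
    · rintro _ ⟨⟨a, ha⟩, rfl⟩
      rw [SetLike.mem_coe, LinearMap.mem_ker, LinearMap.sub_apply, LinearMap.id_apply, hs, ha, sub_self]
    · have hplus : ∀ y : k ⊗[R] A, y + s y ∈ symSpan t q := fun y => by
        induction y using TensorProduct.induction_on with
        | zero => simp
        | add a b ha hb => rw [map_add, add_add_add_comm]; exact add_mem ha hb
        | tmul c a =>
          rw [hs, ← TensorProduct.tmul_add, show c ⊗ₜ[R] (a + t a) = c • ((1 : k) ⊗ₜ[R] (a + t a)) by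
            rw [TensorProduct.smul_tmul', smul_eq_mul, mul_one]]
          exact Submodule.smul_mem _ _ (Submodule.subset_span ⟨⟨a + t a, by rw [t.map_add, t.invol, add_comm]⟩, rfl⟩)
      rw [LinearMap.mem_ker, LinearMap.sub_apply, LinearMap.id_apply, sub_eq_zero] at hz
      have h' := Submodule.smul_mem (symSpan t q) (2 : k)⁻¹ (hplus z)
      rwa [hz, ← two_smul k, smul_smul, inv_mul_cancel₀ h2k, one_smul] at h'
  -- splitting over the algebraic closure
  let incl : A →ₐ[S] T ⊗[S] A := Algebra.TensorProduct.includeRight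
  let ψ : A →ₐ[R] Matrix (Fin n) (Fin n) L :=
    { toRingHom := (ρ.toRingHom.mapMatrix).comp (f.toRingHom.comp incl.toRingHom)
      commutes' := fun r => by
        show (f (incl (algebraMap R A r))).map ρ = _
        have hr : incl (algebraMap R A r) = algebraMap (T ⊗[S] R) (T ⊗[S] A) ((1 : T) ⊗ₜ[S] r) := by
          show _ = scalarHom S A T _
          simp [incl, scalarHom]
        rw [hr, f.commutes]
        ext i j
        by_cases hij : i = j <;> simp [hij, ρ, Matrix.algebraMap_matrix_apply] }
  have hAk := GrothLib.Azu.isAzumaya_baseChange R k A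
  have hAL := GrothLib.Azu.isAzumaya_baseChange k L (k ⊗[R] A)
  have hML : IsAzumaya L (Matrix (Fin n) (Fin n) L) := IsAzumaya.matrix _ _
  let ψk : k ⊗[R] A →ₐ[k] Matrix (Fin n) (Fin n) L :=
    Algebra.TensorProduct.lift (Algebra.ofId k _) ψ fun c _ => Algebra.commutes c _
  let Φ : L ⊗[k] (k ⊗[R] A) →ₐ[L] Matrix (Fin n) (Fin n) L :=
    Algebra.TensorProduct.lift (Algebra.ofId L _) ψk fun c _ => Algebra.commutes c _
  have hΦ : Function.Bijective Φ := hom_bijective Φ fun P => by
    rw [Module.rankAtStalk_baseChange, Module.rankAtStalk_baseChange, hrk, Module.rankAtStalk_eq_finrank_of_free,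
      Pi.natCast_apply, Nat.cast_id, Module.finrank_matrix, Module.finrank_self, Fintype.card_fin, mul_one, pow_two]
  let e := AlgEquiv.ofBijective Φ hΦ
  have hwL : w.map (algebraMap S L) * wi.map (algebraMap S L) = 1 := by
    rw [← Matrix.map_mul, hw1, Matrix.map_one _ (map_zero _) (map_one _)]
  have hinv : (wi.map (algebraMap S L))⁻¹ = w.map (algebraMap S L) := Matrix.inv_eq_left_inv hwL
  have he1 : ∀ (c : L) (d : k) (a : A), e (c ⊗ₜ[k] (d ⊗ₜ[R] a)) = (d • c) • ψ a := fun c d a => by
    show algebraMap L (Matrix (Fin n) (Fin n) L) c * (algebraMap k (Matrix (Fin n) (Fin n) L) d * ψ a) = _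
    rw [← Algebra.smul_def, ← Algebra.smul_def, ← algebraMap_smul L d (ψ a), smul_smul, Algebra.smul_def d c,
      mul_comm]
  have hfix : ∀ a : A, ψ (t a) = w.map (algebraMap S L) * (ψ a).transpose * wi.map (algebraMap S L) := fun a => by
    have h1 := hf (incl a)
    rw [show t.bc S lam T (incl a) = incl (t a) from AzInv.LamInv.bc_tmul ..] at h1
    show (f (incl (t a))).map ρ = _
    rw [h1, Matrix.map_mul, Matrix.map_mul]
    congr 1
    congr 1
    · ext i j; simp [ρ]
    · ext i j; exact hρ _
    · ext i j; simp [ρ]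
  have hmain := Involution.finrank_ker_involution h2k s hss e (wi.map (algebraMap S L))
    (isUnit_iff_exists.2 ⟨_, mul_eq_one_comm.1 hwL, hwL⟩) (algebraMap S L ε)
    (by rcases hε with rfl | rfl <;> simp)
    (by rw [← Matrix.transpose_map, hwt]; ext i j; simp)
    (fun x => by
      rw [hinv]
      induction x using TensorProduct.induction_on with
      | zero => simp
      | add a b ha hb => simp only [map_add, ha, hb, Matrix.transpose_add, Matrix.mul_add, Matrix.add_mul]
      | tmul c z =>
        rw [LinearMap.baseChange_tmul]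
        induction z using TensorProduct.induction_on with
        | zero => simp
        | add a b ha hb =>
          simp only [map_add, TensorProduct.tmul_add, ha, hb, Matrix.transpose_add, Matrix.mul_add, Matrix.add_mul]
        | tmul d a =>
          rw [hs, he1, he1, hfix, Matrix.transpose_smul, Matrix.mul_smul, Matrix.smul_mul])
  show (ε = 1 → Module.finrank k (symSpan t q) = _) ∧ (ε = -1 → Module.finrank k (symSpan t q) = _)
  rw [hspan]
  exact ⟨fun h1 => (hmain.1 (by rw [h1, map_one])).1, fun h1 => (hmain.2 (by rw [h1, map_neg, map_one])).1⟩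

/-- The sign at a ramified prime is read off from the locus. -/
theorem finrank_symSpan_iff (hlam : ∀ r, lam (lam r) = r) (hfix : RInv.IsFixedRing S R lam.toRingEquiv)
    (h2 : IsUnit (2 : S)) {n : ℕ} (hn : 0 < n) (hrk : ∀ p : PrimeSpectrum R, Module.rankAtStalk A p = n ^ 2)
    (q : PrimeSpectrum R) (hq : ∀ r : R, lam r - r ∈ q.asIdeal) :
    Module.finrank q.asIdeal.ResidueField (symSpan t q) = (n + 1).choose 2 ↔
      PrimeSpectrum.comap (algebraMap S R) q ∈ LOne t n := by
  constructor
  · intro hd
    rcases mem_lOne_or_lAlt hlam hfix h2 hn hrk (t := t) (PrimeSpectrum.comap (algebraMap S R) q) with h | ⟨k, hk, h⟩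
    · exact h
    exfalso
    let e : Fin 2 × Fin k ≃ Fin n := finProdFinEquiv.trans (finCongr hk)
    obtain ⟨T, _, _, hT, hpT, hstd⟩ := locus_reindex e h
    have hd' := (finrank_symSpan_of_std h2 hn hrk q hq T hpT (Matrix.reindex e e (altJ k S))
      (Matrix.reindex e e (-altJ k S)) (by
        simp only [Matrix.reindex_apply, Matrix.submatrix_mul_equiv, altJ_mul_neg, Matrix.submatrix_one_equiv])
      (-1) (Or.inr rfl) (by
        have h := st_altJ k (RingHom.id S)
        rw [st, show (altJ k S).map (RingHom.id S) = altJ k S from Matrix.map_id _] at h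
        simp only [Matrix.reindex_apply, Matrix.transpose_submatrix, Matrix.transpose_neg, h]
        ext i j; simp) hstd).2 rfl
    have hc : (n + 1).choose 2 = n + n.choose 2 := by
      rw [Nat.choose_succ_succ' n 1, Nat.choose_one_right]
    omega
  · rintro ⟨T, _, _, hT, hpT, hstd⟩
    exact (finrank_symSpan_of_std h2 hn hrk q hq T hpT 1 1 (one_mul 1) 1 (Or.inl rfl) (by simp) hstd).1 rfl

end GrothLib.AzInvol
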