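import Groth.Agent.Lib.AzInvol.Bc
import Groth.Agent.Lib.RInvol.Forms
import Groth.Agent.Lib.Azumaya.Constructions
import Mathlib.RingTheory.MatrixAlgebra

set_option autoImplicit false

/-!
# Standard forms of involutions

`Std S lam T t w wi`: after base change to `T` the algebra with involution is the matrix algebra
with `x ↦ w x^* wi`, expressed by a system of matrix units.
-/

universe u v w w'

open scoped TensorProduct
open GrothLib.AzMod GrothLib.RInvol.Forms Matrix

namespace GrothLib.AzInvol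

section Units

variable {R' : Type u} {B : Type w} [CommRing R'] [Ring B] [Algebra R' B] [IsAzumaya R' B]
  {ι : Type} [Fintype ι] [DecidableEq ι] [Nonempty ι]

theorem exists_equiv_of_units (E : ι → ι → B) (hE : ∀ i j k l, E i j * E k l = if j = k then E i l else 0)
    (hE1 : ∑ i, E i i = 1) (hrk : ∀ q : PrimeSpectrum R', Module.rankAtStalk B q = Fintype.card ι ^ 2) :
    ∃ f : B ≃ₐ[R'] Matrix ι ι R', (∀ i j, f (E i j) = Matrix.single i j 1) ∧
      ∀ x, x = ∑ i, ∑ j, f x i j • E i j := by
  have : IsAzumaya R' (Matrix ι ι R') := IsAzumaya.matrix _ _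
  let G : Matrix ι ι R' →ₐ[R'] B := AlgHom.ofLinearMap
    { toFun := fun M => ∑ a, ∑ b, M a b • E a b
      map_add' := fun M M' => by simp only [Matrix.add_apply, add_smul, Finset.sum_add_distrib]
      map_smul' := fun c M => by simp only [RingHom.id_apply, Matrix.smul_apply, smul_eq_mul, mul_smul, Finset.smul_sum] }
    (by
      show ∑ a, ∑ b, (1 : Matrix ι ι R') a b • E a b = 1
      rw [← hE1]
      exact Finset.sum_congr rfl fun a _ => by simp [Matrix.one_apply, ite_smul])
    (fun M M' => by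
      show ∑ a, ∑ b, (M * M') a b • E a b = (∑ a, ∑ b, M a b • E a b) * ∑ a, ∑ b, M' a b • E a b
      rw [Finset.sum_mul]
      refine Finset.sum_congr rfl fun a _ => ?_
      rw [Finset.sum_mul]
      simp only [Finset.mul_sum, smul_mul_smul_comm, hE, smul_ite, smul_zero, Matrix.mul_apply, Finset.sum_smul,
        Finset.sum_ite_irrel, Finset.sum_const_zero, Finset.sum_ite_eq, Finset.mem_univ, if_true]
      exact Finset.sum_comm)
  have hbij : Function.Bijective G := hom_bijective G fun q => by
    have := q.nontrivial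
    rw [hrk, Module.rankAtStalk_eq_finrank_of_free, Pi.natCast_apply, Nat.cast_id, Module.finrank_matrix,
      Module.finrank_self, mul_one, pow_two]
  refine ⟨(AlgEquiv.ofBijective G hbij).symm, fun i j => ?_, fun x => ?_⟩
  · apply (AlgEquiv.ofBijective G hbij).injective
    rw [AlgEquiv.apply_symm_apply]
    show E i j = ∑ a, ∑ b, Matrix.single i j (1 : R') a b • E a b
    simp [Matrix.single_apply, ite_smul, ite_and]
  · exact ((AlgEquiv.ofBijective G hbij).apply_symm_apply x).symm

end Units

variable (S : Type u) {R : Type v} [CommRing S] [CommRing R] [Algebra S R]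
  (lam : R ≃ₐ[S] R) (T : Type u) [CommRing T] [Algebra S T]
  {A : Type w} [Ring A] [Algebra S A] [Algebra R A] [IsScalarTower S R A]

attribute [local instance] Algebra.TensorProduct.rightAlgebra scalarAlgebra

/-- Standard form `x ↦ w x^* wi` over `T`. -/
def Std (t : AzInv.LamInv R A lam) {ι : Type} [Fintype ι] [DecidableEq ι] (w wi : Matrix ι ι T) : Prop :=
  ∃ E : ι → ι → T ⊗[S] A, (∀ i j k l, E i j * E k l = if j = k then E i l else 0) ∧ ∑ i, E i i = 1 ∧
    ∀ i j, t.bc S lam T (E i j) = ∑ k, ∑ l, (w k j * wi i l) • E k l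

variable {S lam T} {t : AzInv.LamInv R A lam} {ι : Type} [Fintype ι] [DecidableEq ι]

theorem algebraMap_smul_tensor (c : T) (x : T ⊗[S] A) : algebraMap T (T ⊗[S] R) c • x = c • x := by
  rw [Algebra.smul_def, Algebra.smul_def]
  congr 1
  exact (scalarHom S A T).commutes c

theorem single_conj_apply {R' : Type w'} [CommRing R'] (w wi : Matrix ι ι R') (i j k l : ι) :
    ((w * Matrix.single j i (1 : R') * wi : Matrix ι ι R')) k l = w k j * wi i l := by
  simp [Matrix.mul_apply, Matrix.single_apply, ite_and]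

/-- A standard form gives an isomorphism with the matrix algebra. -/
theorem Std.exists_equiv [IsAzumaya R A] [Nonempty ι] {w wi : Matrix ι ι T} (h : Std S lam T t w wi)
    (hrk : ∀ q : PrimeSpectrum (T ⊗[S] R), Module.rankAtStalk (T ⊗[S] A) q = Fintype.card ι ^ 2) :
    ∃ f : (T ⊗[S] A) ≃ₐ[T ⊗[S] R] Matrix ι ι (T ⊗[S] R), ∀ x, f (t.bc S lam T x) =
      w.map (algebraMap T (T ⊗[S] R)) * st (lamT S lam T : (T ⊗[S] R) →+* T ⊗[S] R) (f x) *
        wi.map (algebraMap T (T ⊗[S] R)) := by
  obtain ⟨E, hE, hE1, hEt⟩ := h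
  have := isAzumaya_base (R := R) S A T
  obtain ⟨f, hfE, hdec⟩ := exists_equiv_of_units E hE hE1 hrk
  refine ⟨f, fun x => Matrix.ext fun k l => ?_⟩
  conv_lhs => rw [hdec x]
  simp only [map_sum, bc_scalarMul, map_smul, hEt, ← algebraMap_smul_tensor (R := R), hfE, Matrix.sum_apply,
    Matrix.smul_apply, Matrix.single_apply, smul_eq_mul, ite_and, mul_ite, mul_one, mul_zero,
    Finset.sum_ite_irrel, Finset.sum_const_zero, Finset.sum_ite_eq', Finset.mem_univ, if_true]
  simp only [Matrix.mul_apply, Matrix.map_apply, st_apply, map_mul, RingHom.coe_coe, Finset.sum_mul]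
  exact Finset.sum_congr rfl fun i _ => Finset.sum_congr rfl fun j _ => by ring

theorem Std.of_equiv {w wi : Matrix ι ι T} (f : (T ⊗[S] A) ≃ₐ[T ⊗[S] R] Matrix ι ι (T ⊗[S] R))
    (hf : ∀ x, f (t.bc S lam T x) =
      w.map (algebraMap T (T ⊗[S] R)) * st (lamT S lam T : (T ⊗[S] R) →+* T ⊗[S] R) (f x) *
        wi.map (algebraMap T (T ⊗[S] R))) : Std S lam T t w wi := by
  refine ⟨fun i j => f.symm (Matrix.single i j 1), fun i j k l => ?_, ?_, fun i j => ?_⟩
  · rw [← map_mul]
    split_ifs with h
    · subst h; rw [Matrix.single_mul_single_same, one_mul]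
    · rw [Matrix.single_mul_single_of_ne _ _ _ _ h, map_zero]
  · rw [← map_sum, Matrix.sum_single_one, map_one]
  · apply f.injective
    rw [hf, AlgEquiv.apply_symm_apply,
      show st (lamT S lam T : (T ⊗[S] R) →+* T ⊗[S] R) (Matrix.single i j 1) = Matrix.single j i 1 from
        by simp [st, Matrix.map_single, Matrix.transpose_single]]
    refine Matrix.ext fun k l => ?_
    rw [single_conj_apply]
    simp only [← algebraMap_smul_tensor (R := R), map_sum, map_smul, AlgEquiv.apply_symm_apply,
      Matrix.sum_apply, Matrix.smul_apply, Matrix.single_apply, ite_and, smul_eq_mul, mul_ite, mul_one,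
      mul_zero, Finset.sum_ite_irrel, Finset.sum_const_zero, Finset.sum_ite_eq', Finset.mem_univ, if_true,
      Matrix.map_apply, map_mul]

theorem Std.map {T' : Type u} [CommRing T'] [Algebra S T'] (g : T →ₐ[S] T') {w wi : Matrix ι ι T}
    (h : Std S lam T t w wi) : Std S lam T' t (w.map g) (wi.map g) := by
  obtain ⟨E, hE, hE1, hEt⟩ := h
  have hs : ∀ (c : T) (x : T ⊗[S] A), Algebra.TensorProduct.map g (AlgHom.id S A) (c • x) =
      g c • Algebra.TensorProduct.map g (AlgHom.id S A) x := fun c x => by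
    simp [Algebra.smul_def, Algebra.TensorProduct.algebraMap_apply]
  refine ⟨fun i j => Algebra.TensorProduct.map g (AlgHom.id S A) (E i j), fun i j k l => ?_, ?_, fun i j => ?_⟩
  · rw [← map_mul, hE]
    split_ifs
    · rfl
    · simp
  · rw [← map_sum, hE1, map_one]
  · rw [← bc_map, hEt]
    simp only [map_sum, hs, Matrix.map_apply, map_mul]

theorem Std.reindex {κ : Type} [Fintype κ] [DecidableEq κ] (e : ι ≃ κ) {w wi : Matrix ι ι T}
    (h : Std S lam T t w wi) : Std S lam T t (Matrix.reindex e e w) (Matrix.reindex e e wi) := by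
  obtain ⟨E, hE, hE1, hEt⟩ := h
  refine ⟨fun a b => E (e.symm a) (e.symm b), fun i j k l => ?_, ?_, fun i j => ?_⟩
  · rw [hE]; simp [e.symm.injective.eq_iff]
  · rw [← hE1]; exact e.symm.sum_comp fun i => E i i
  · rw [hEt, ← e.symm.sum_comp fun k => ∑ l, (w k (e.symm j) * wi (e.symm i) l) • E k l]
    refine Finset.sum_congr rfl fun k _ => ?_
    rw [← e.symm.sum_comp fun l => (w (e.symm k) (e.symm j) * wi (e.symm i) l) • E (e.symm k) l]
    rfl

theorem Std.neg {w wi : Matrix ι ι T} (h : Std S lam T t w wi) : Std S lam T t (-w) (-wi) := by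
  obtain ⟨E, hE, hE1, hEt⟩ := h
  exact ⟨E, hE, hE1, fun i j => by rw [hEt]; simp⟩

theorem Std.matrix (m : Type) [Fintype m] [DecidableEq m] {w wi : Matrix ι ι T} (h : Std S lam T t w wi) :
    Std S lam T (t.matrix m) (Matrix.blockDiagonal fun _ : m => w) (Matrix.blockDiagonal fun _ : m => wi) := by
  obtain ⟨E, hE, hE1, hEt⟩ := h
  let inc (a b : m) : T ⊗[S] A →ₗ[T] T ⊗[S] Matrix m m A := (Matrix.singleLinearMap S a b).baseChange T
  have hmul : ∀ a b c d x y, inc a b x * inc c d y = if b = c then inc a d (x * y) else 0 := by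
    intro a b c d x y
    induction x using TensorProduct.induction_on with
    | zero => simp
    | add p q hp hq => rw [map_add, add_mul, hp, hq, add_mul, map_add]; split_ifs <;> simp
    | tmul r z =>
      induction y using TensorProduct.induction_on with
      | zero => simp
      | add p q hp hq => rw [map_add, mul_add, hp, hq, mul_add, map_add]; split_ifs <;> simp
      | tmul r' z' =>
        simp only [inc, LinearMap.baseChange_tmul, Algebra.TensorProduct.tmul_mul_tmul]
        split_ifs with hbc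
        · subst hbc; simp [Matrix.single_mul_single_same]
        · simp [Matrix.single_mul_single_of_ne _ _ _ _ hbc]
  have hbc : ∀ a b x, (t.matrix m).bc S lam T (inc a b x) = inc b a (t.bc S lam T x) := by
    intro a b x
    induction x using TensorProduct.induction_on with
    | zero => simp
    | add p q hp hq => simp only [map_add, hp, hq]
    | tmul r z =>
      simp only [inc, LinearMap.baseChange_tmul, AzInv.LamInv.bc_tmul]
      congr 1
      ext p q
      show t (Matrix.single a b z q p) = Matrix.single b a (t z) p q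
      by_cases h1 : a = q <;> by_cases h2 : b = p <;> simp [Matrix.single_apply, h1, h2]
  have hone : ∑ a, inc a a 1 = 1 := by
    simp only [inc, Algebra.TensorProduct.one_def, LinearMap.baseChange_tmul]
    rw [← TensorProduct.tmul_sum]
    exact congrArg _ Matrix.sum_single_one
  refine ⟨fun p q => inc p.2 q.2 (E p.1 q.1), fun p q r s => ?_, ?_, fun p q => ?_⟩
  · rw [hmul, hE]
    rcases q with ⟨q1, q2⟩; rcases r with ⟨r1, r2⟩
    by_cases h2 : q2 = r2 <;> by_cases h1 : q1 = r1 <;> simp [h1, h2]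
  · rw [Fintype.sum_prod_type, Finset.sum_comm]
    simp only [← map_sum, hE1, hone]
  · rw [hbc, hEt, Fintype.sum_prod_type]
    simp only [map_sum, map_smul, Fintype.sum_prod_type, Matrix.blockDiagonal_apply, ite_mul, mul_ite,
      zero_mul, mul_zero, ite_smul, zero_smul, Finset.sum_ite_irrel, Finset.sum_const_zero,
      Finset.sum_ite_eq, Finset.sum_ite_eq', Finset.mem_univ, if_true]

variable {A' : Type w'} [Ring A'] [Algebra S A'] [Algebra R A'] [IsScalarTower S R A']
  {t' : AzInv.LamInv R A' lam}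

theorem Std.transport (f : T ⊗[S] A ≃ₐ[T] T ⊗[S] A') (hf : ∀ x, f (t.bc S lam T x) = t'.bc S lam T (f x))
    {w wi : Matrix ι ι T} (h : Std S lam T t w wi) : Std S lam T t' w wi := by
  obtain ⟨E, hE, hE1, hEt⟩ := h
  refine ⟨fun i j => f (E i j), fun i j k l => ?_, by rw [← map_sum, hE1, map_one], fun i j => ?_⟩
  · rw [← map_mul, hE]
    split_ifs
    · rfl
    · simp
  · rw [← hf, hEt]
    simp only [map_sum, map_smul]

/-- Two algebras with the same standard form are isomorphic. -/
theorem Std.exists_iso [IsAzumaya R A] [IsAzumaya R A'] [Nonempty ι] {w wi : Matrix ι ι T}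
    (h : Std S lam T t w wi) (h' : Std S lam T t' w wi)
    (hrk : ∀ q : PrimeSpectrum (T ⊗[S] R), Module.rankAtStalk (T ⊗[S] A) q = Fintype.card ι ^ 2)
    (hrk' : ∀ q : PrimeSpectrum (T ⊗[S] R), Module.rankAtStalk (T ⊗[S] A') q = Fintype.card ι ^ 2) :
    ∃ f : T ⊗[S] A ≃ₐ[T] T ⊗[S] A',
      (∀ (r : R) (x : T ⊗[S] A),
        f (((1 : T) ⊗ₜ[S] algebraMap R A r) * x) = ((1 : T) ⊗ₜ[S] algebraMap R A' r) * f x) ∧
      ∀ x, f (t.bc S lam T x) = t'.bc S lam T (f x) := by
  obtain ⟨f, hf⟩ := h.exists_equiv hrk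
  obtain ⟨f', hf'⟩ := h'.exists_equiv hrk'
  let F := f.trans f'.symm
  have hT : ∀ c : T, F (algebraMap T (T ⊗[S] A) c) = algebraMap T (T ⊗[S] A') c := fun c => by
    rw [← (scalarHom (R := R) S A T).commutes c, ← (scalarHom (R := R) S A' T).commutes c]
    exact F.commutes _
  refine ⟨AlgEquiv.ofRingEquiv (f := F.toRingEquiv) hT, fun r x => ?_, fun x => ?_⟩
  · show F (_ * x) = _ * F x
    have h1 : ((1 : T) ⊗ₜ[S] algebraMap R A r : T ⊗[S] A) = algebraMap (T ⊗[S] R) _ ((1 : T) ⊗ₜ[S] r) := by
      show _ = scalarHom S A T _; simp [scalarHom]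
    have h2 : ((1 : T) ⊗ₜ[S] algebraMap R A' r : T ⊗[S] A') = algebraMap (T ⊗[S] R) _ ((1 : T) ⊗ₜ[S] r) := by
      show _ = scalarHom S A' T _; simp [scalarHom]
    rw [map_mul, h1, h2, F.commutes]
  · show f'.symm (f (t.bc S lam T x)) = t'.bc S lam T (f'.symm (f x))
    apply f'.injective
    rw [AlgEquiv.apply_symm_apply, hf, hf', AlgEquiv.apply_symm_apply]

theorem rankAtStalk_base_eq [IsAzumaya R A] {n : ℕ} (hrk : ∀ p : PrimeSpectrum R, Module.rankAtStalk A p = n ^ 2)
    (T : Type u) [CommRing T] [Algebra S T] (hn : Fintype.card ι = n) (q : PrimeSpectrum (T ⊗[S] R)) :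
    Module.rankAtStalk (T ⊗[S] A) q = Fintype.card ι ^ 2 := by
  rw [rankAtStalk_base (R := R) S A T, hrk, hn]

/-- The standard form of a neutral involution. -/
theorem Std.self (hlam : ∀ r, lam (lam r) = r) :
    Std S lam T (AzInv.LamInv.self lam hlam) (1 : Matrix (Fin 1) (Fin 1) T) 1 := by
  refine ⟨fun _ _ => 1, fun i j k l => by simp [Subsingleton.elim j k], by simp, fun i j => ?_⟩
  rw [bc_one]
  simp [Matrix.one_apply, Subsingleton.elim _ i, Subsingleton.elim j i]

/-- The standard form of an adjoint involution with constant entries. -/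
theorem Std.transposeConj (hlam : ∀ r, lam (lam r) = r) (w : (Matrix ι ι R)ˣ) (e : R)
    (hw : AzInv.LamInv.transpose lam ι hlam (↑w : Matrix ι ι R) = e • (↑w : Matrix ι ι R))
    (he : lam e * e = 1) (w₀ wi₀ : Matrix ι ι S)
    (hw₀ : (↑w : Matrix ι ι R) = w₀.map (algebraMap S R))
    (hwi₀ : (↑w⁻¹ : Matrix ι ι R) = wi₀.map (algebraMap S R)) :
    Std S lam T ((AzInv.LamInv.transpose lam ι hlam).conj w e hw he) (w₀.map (algebraMap S T))
      (wi₀.map (algebraMap S T)) := by
  refine ⟨fun i j => (1 : T) ⊗ₜ Matrix.single i j 1, fun i j k l => ?_, ?_, fun i j => ?_⟩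
  · rw [Algebra.TensorProduct.tmul_mul_tmul, one_mul]
    split_ifs with h
    · subst h; rw [Matrix.single_mul_single_same, one_mul]
    · rw [Matrix.single_mul_single_of_ne _ _ _ _ h, TensorProduct.tmul_zero]
  · rw [← TensorProduct.tmul_sum, Matrix.sum_single_one]; rfl
  · have h1 : AzInv.LamInv.transpose lam ι hlam (Matrix.single i j (1 : R)) = Matrix.single j i 1 := by
      show ((Matrix.single i j (1 : R)).map lam)ᵀ = _
      simp [Matrix.map_single, Matrix.transpose_single]
    simp only [Matrix.map_apply, ← map_mul, algebraMap_smul, TensorProduct.smul_tmul',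
      TensorProduct.smul_tmul, ← TensorProduct.tmul_sum]
    rw [AzInv.LamInv.bc_tmul, AzInv.LamInv.conj_apply, h1]
    congr 1
    ext a b
    rw [single_conj_apply, hw₀, hwi₀]
    simp only [Matrix.map_apply, Matrix.sum_apply, Matrix.smul_apply]
    simp [Matrix.single_apply, ite_and, Algebra.smul_def]

theorem isAzumayaDeg_matrix {n : ℕ} (hA : AzInv.IsAzumayaDeg R A n) (m : ℕ) (hm : 0 < m) :
    AzInv.IsAzumayaDeg R (Matrix (Fin m) (Fin m) A) (m * n) := by
  obtain ⟨hAz, hrk⟩ := hA
  have : Nonempty (Fin m) := ⟨⟨0, hm⟩⟩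
  have : IsAzumaya R (Matrix (Fin m) (Fin m) R) := IsAzumaya.matrix _ _
  have := GrothLib.Azu.isAzumaya_tensor R A (Matrix (Fin m) (Fin m) R)
  refine ⟨IsAzumaya.of_AlgEquiv _ _ _ (matrixEquivTensor (Fin m) R A).symm, fun p => ?_⟩
  have := p.nontrivial
  rw [Module.rankAtStalk_eq_of_equiv (matrixEquivTensor (Fin m) R A).toLinearEquiv,
    Module.rankAtStalk_tensorProduct, Pi.mul_apply, hrk, Module.rankAtStalk_eq_finrank_of_free, Pi.natCast_apply,
    Nat.cast_id, Module.finrank_matrix, Module.finrank_self, Fintype.card_fin, mul_one]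
  ring

end GrothLib.AzInvol
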