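import Groth.Agent.Lib.AzInvol.Classify

set_option autoImplicit false

/-!
# Orthogonal and symplectic loci
-/

universe u v w w'

open scoped TensorProduct
open GrothLib.AzMod GrothLib.RInvol GrothLib.RInvol.Forms GrothLib.Hensel Matrix

namespace GrothLib.AzInvol

attribute [local instance] Algebra.TensorProduct.rightAlgebra scalarAlgebra hull_isLocalRing

variable {S : Type u} {R : Type v} [CommRing S] [CommRing R] [Algebra S R] {lam : R ≃ₐ[S] R}
  {A : Type w} [Ring A] [Algebra S A] [Algebra R A] [IsScalarTower S R A]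

/-- Neutral (orthogonal) locus in size `n`. -/
abbrev LOne (t : AzInv.LamInv R A lam) (n : ℕ) : Set (PrimeSpectrum S) :=
  Locus t (1 : Matrix (Fin n) (Fin n) S) 1

/-- Symplectic locus in size `2k`. -/
abbrev LAlt (t : AzInv.LamInv R A lam) (k : ℕ) : Set (PrimeSpectrum S) :=
  Locus t (altJ k S) (-altJ k S)

variable {t : AzInv.LamInv R A lam}

theorem neg_altJ_map (k : ℕ) {T : Type u} [CommRing T] [Algebra S T] :
    (-altJ k S).map (algebraMap S T) = -altJ k T := by
  rw [← altJ_map k (algebraMap S T)]; ext i j; simp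

theorem locus_reindex {ι κ : Type} [Fintype ι] [DecidableEq ι] [Fintype κ] [DecidableEq κ] (e : ι ≃ κ)
    {w wi : Matrix ι ι S} {p : PrimeSpectrum S} (h : p ∈ Locus t w wi) :
    p ∈ Locus t (Matrix.reindex e e w) (Matrix.reindex e e wi) := by
  obtain ⟨T, _, _, hT, hp, h⟩ := h
  exact ⟨T, _, _, hT, hp, h.reindex e⟩

theorem locus_matrix {ι : Type} [Fintype ι] [DecidableEq ι] (m : Type) [Fintype m] [DecidableEq m]
    {w wi : Matrix ι ι S} {p : PrimeSpectrum S} (h : p ∈ Locus t w wi) :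
    p ∈ Locus (t.matrix m) (Matrix.blockDiagonal fun _ : m => w) (Matrix.blockDiagonal fun _ : m => wi) := by
  obtain ⟨T, _, _, hT, hp, h⟩ := h
  refine ⟨T, _, _, hT, hp, ?_⟩
  rw [Matrix.blockDiagonal_map _ _ (map_zero _), Matrix.blockDiagonal_map _ _ (map_zero _)]
  exact h.matrix m

theorem lOne_matrix {n : ℕ} (m : ℕ) {p : PrimeSpectrum S} (h : p ∈ LOne t n) :
    p ∈ LOne (t.matrix (Fin m)) (m * n) := by
  have := locus_reindex ((Equiv.prodComm _ _).trans finProdFinEquiv) (locus_matrix (Fin m) h)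
  rwa [show (Matrix.blockDiagonal fun _ : Fin m => (1 : Matrix (Fin n) (Fin n) S)) = 1 from Matrix.blockDiagonal_one,
    Matrix.reindex_apply, Matrix.submatrix_one_equiv] at this

theorem lAlt_matrix {k : ℕ} (m : ℕ) {p : PrimeSpectrum S} (h : p ∈ LAlt t k) :
    p ∈ LAlt (t.matrix (Fin m)) (m * k) := by
  let e : (Fin 2 × Fin k) × Fin m ≃ Fin 2 × Fin (m * k) :=
    (Equiv.prodAssoc _ _ _).trans ((Equiv.refl _).prodCongr ((Equiv.prodComm _ _).trans finProdFinEquiv))
  have := locus_reindex e (locus_matrix (Fin m) h)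
  have he : Matrix.reindex e e (Matrix.blockDiagonal fun _ : Fin m => altJ k S) = altJ (m * k) S := by
    ext ⟨a, x⟩ ⟨b, y⟩
    obtain ⟨⟨x1, x2⟩, rfl⟩ := finProdFinEquiv.surjective x
    obtain ⟨⟨y1, y2⟩, rfl⟩ := finProdFinEquiv.surjective y
    simp only [altJ, e, Matrix.reindex_apply, Matrix.submatrix_apply, Matrix.blockDiagonal_apply, Equiv.symm_trans_apply,
      Equiv.prodCongr_symm, Equiv.prodCongr_apply, Prod.map_apply, Equiv.refl_symm, Equiv.refl_apply,
      Equiv.symm_apply_apply, Equiv.prodComm_symm, Equiv.prodComm_apply, Prod.swap_prod_mk,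
      Equiv.prodAssoc_symm_apply, finProdFinEquiv.injective.eq_iff, Prod.mk.injEq]
    by_cases h1 : x1 = y1 <;> by_cases h2 : x2 = y2 <;> simp [h1, h2]
  have he' : Matrix.reindex e e (Matrix.blockDiagonal fun _ : Fin m => -altJ k S) = -altJ (m * k) S := by
    rw [← he, show (fun _ : Fin m => -altJ k S) = -(fun _ : Fin m => altJ k S) from rfl, Matrix.blockDiagonal_neg]
    rfl
  rwa [he, he'] at this

theorem lOne_self (hlam : ∀ r, lam (lam r) = r) (p : PrimeSpectrum S) :
    p ∈ LOne (AzInv.LamInv.self lam hlam) 1 := by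
  refine ⟨S, inferInstance, inferInstance, inferInstance, ⟨p, PrimeSpectrum.ext rfl⟩, ?_⟩
  rw [Matrix.map_one _ (map_zero _) (map_one _)]
  exact Std.self hlam

variable [IsAzumaya R A]

theorem mem_lOne (hlam : ∀ r, lam (lam r) = r) (hfix : RInv.IsFixedRing S R lam.toRingEquiv) (hsq : HasSqrts S)
    {n : ℕ} (hn : 0 < n) (hrk : ∀ p : PrimeSpectrum R, Module.rankAtStalk A p = n ^ 2) {p : PrimeSpectrum S}
    (h : SplitAt lam p ∨ Odd n) : p ∈ LOne t n := by
  refine mem_locus_of_hull (ker_geomField p) ?_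
  rw [Matrix.map_one _ (map_zero _) (map_one _)]
  exact std_one_hull (geomField p) t hlam hfix hsq hn hrk h

theorem mem_lOne_or_lAlt (hlam : ∀ r, lam (lam r) = r) (hfix : RInv.IsFixedRing S R lam.toRingEquiv)
    (h2 : IsUnit (2 : S)) {n : ℕ} (hn : 0 < n) (hrk : ∀ p : PrimeSpectrum R, Module.rankAtStalk A p = n ^ 2)
    (p : PrimeSpectrum S) : p ∈ LOne t n ∨ ∃ k, 2 * k = n ∧ p ∈ LAlt t k := by
  rcases std_one_or_alt_hull (geomField p) t hlam hfix (hasSqrts_of_isUnit_two h2) h2 hn hrk with h | ⟨k, e, h⟩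
  · left
    refine mem_locus_of_hull (ker_geomField p) ?_
    rwa [Matrix.map_one _ (map_zero _) (map_one _)]
  · refine Or.inr ⟨k, by simpa using (Fintype.card_congr e).symm, mem_locus_of_hull (ker_geomField p) ?_⟩
    rwa [altJ_map, neg_altJ_map]

theorem not_mem_lOne_and_lAlt (hlam : ∀ r, lam (lam r) = r) (hfix : RInv.IsFixedRing S R lam.toRingEquiv)
    (h2 : IsUnit (2 : S)) {n k : ℕ} (hn : 0 < n) (hk : 2 * k = n)
    (hrk : ∀ p : PrimeSpectrum R, Module.rankAtStalk A p = n ^ 2) {p : PrimeSpectrum S}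
    (hp : ¬ SplitAt lam p) (h1 : p ∈ LOne t n) (hJ : p ∈ LAlt t k) : False := by
  obtain ⟨_, htriv⟩ := (hull_cases hlam hfix p).resolve_right hp
  have e1 := std_hull_of_mem h1 (geomField p) (ker_geomField p)
  have e2 := std_hull_of_mem hJ (geomField p) (ker_geomField p)
  rw [Matrix.map_one _ (map_zero _) (map_one _)] at e1
  rw [altJ_map, neg_altJ_map] at e2
  exact not_std_one_and_alt (geomField p) hlam hfix h2 htriv hrk hk hn e1 e2

section Transport

variable {A' : Type w'} [Ring A'] [Algebra S A'] [Algebra R A'] [IsScalarTower S R A']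
  {t' : AzInv.LamInv R A' lam}

omit [IsAzumaya R A] in
theorem locus_subset_of_locIsoEt (h : AzInv.LocIsoEt S lam t t') {ι : Type} [Fintype ι] [DecidableEq ι]
    (w wi : Matrix ι ι S) : Locus t w wi ⊆ Locus t' w wi := by
  intro p hp
  obtain ⟨S', _, _, hE, hF, f, -, hf⟩ := h
  refine mem_locus_of_hull (ker_geomField p) ?_
  obtain ⟨φ⟩ := exists_point (C := geomField p) (T := S') p (ker_geomField p)
    (PrimeSpectrum.comap_surjective_of_faithfullyFlat (A := S) (B := S') p)
  obtain ⟨E, hE', hE1, hEt⟩ := std_hull_of_mem hp (geomField p) (ker_geomField p)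
  set H := Hull S (geomField p)
  let g := Algebra.TensorProduct.map (Hull.of φ) (AlgHom.id S A')
  let F : H ⊗[S] A →ₐ[H] H ⊗[S] A' := Algebra.TensorProduct.lift (Algebra.ofId H (H ⊗[S] A'))
    ((g.comp (f.toAlgHom.restrictScalars S)).comp Algebra.TensorProduct.includeRight)
    (fun c _ => Algebra.commutes c _)
  have hF' : ∀ (c : H) (a : A), F (c ⊗ₜ a) = c • g (f ((1 : S') ⊗ₜ a)) := fun c a => by
    simp [F, Algebra.smul_def]
    rfl
  have hbc : ∀ x, F (t.bc S lam H x) = t'.bc S lam H (F x) := fun x => by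
    induction x using TensorProduct.induction_on with
    | zero => simp
    | add a b ha hb => simp only [map_add, ha, hb]
    | tmul c a =>
      rw [AzInv.LamInv.bc_tmul, hF', hF', map_smul, ← bc_map, ← hf, AzInv.LamInv.bc_tmul]
  refine ⟨fun i j => F (E i j), fun i j k l => ?_, by rw [← map_sum, hE1, map_one], fun i j => ?_⟩
  · rw [← map_mul, hE']
    split_ifs
    · rfl
    · simp
  · rw [← hbc, hEt]
    simp only [map_sum, map_smul]

/-- Being of the same type, locus by locus. -/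
theorem locIsoEt_matrix_of_types [IsAzumaya R A'] {n n' m m' : ℕ} (hn : 0 < n) (hm : 0 < m) (hN : m * n = m' * n')
    (hA : AzInv.IsAzumayaDeg R A n) (hA' : AzInv.IsAzumayaDeg R A' n')
    (hm' : 0 < m')
    (h : ∀ p : PrimeSpectrum S, (p ∈ LOne t n ∧ p ∈ LOne t' n') ∨
      ∃ k k', 2 * k = n ∧ 2 * k' = n' ∧ p ∈ LAlt t k ∧ p ∈ LAlt t' k') :
    AzInv.LocIsoEt S lam (t.matrix (Fin m)) (t'.matrix (Fin m')) := by
  have hB := isAzumayaDeg_matrix hA m hm
  have hB' := isAzumayaDeg_matrix hA' m' hm'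
  have := hB.1
  have := hB'.1
  refine locIsoEt_of_forall_locus (N := m * n) (Nat.mul_pos hm hn) hB.2 (hN ▸ hB'.2) fun p => ?_
  rcases h p with ⟨h1, h2⟩ | ⟨k, k', hk, hk', h1, h2⟩
  · refine ⟨Fin (m * n), inferInstance, inferInstance, Equiv.refl _, 1, 1, lOne_matrix m h1, ?_⟩
    rw [hN]; exact lOne_matrix m' h2
  · have hkk : m * k = m' * k' := Nat.eq_of_mul_eq_mul_left (by norm_num : 0 < 2) (by
      rw [← mul_assoc, ← mul_assoc, mul_comm 2 m, mul_comm 2 m', mul_assoc, mul_assoc, hk, hk', hN])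
    refine ⟨Fin 2 × Fin (m * k), inferInstance, inferInstance,
      finProdFinEquiv.trans (finCongr (by rw [← hk]; ring)), altJ (m * k) S, -altJ (m * k) S, lAlt_matrix m h1, ?_⟩
    rw [hkk]; exact lAlt_matrix m' h2

/-- Being of the same type gives a local isomorphism in equal degree. -/
theorem locIsoEt_of_types [IsAzumaya R A'] {n : ℕ} (hn : 0 < n)
    (hA : AzInv.IsAzumayaDeg R A n) (hA' : AzInv.IsAzumayaDeg R A' n)
    (h : ∀ p : PrimeSpectrum S, (p ∈ LOne t n ∧ p ∈ LOne t' n) ∨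
      ∃ k, 2 * k = n ∧ p ∈ LAlt t k ∧ p ∈ LAlt t' k) : AzInv.LocIsoEt S lam t t' := by
  refine locIsoEt_of_forall_locus (N := n) hn hA.2 hA'.2 fun p => ?_
  rcases h p with ⟨h1, h2⟩ | ⟨k, hk, h1, h2⟩
  · exact ⟨Fin n, inferInstance, inferInstance, Equiv.refl _, 1, 1, h1, h2⟩
  · exact ⟨Fin 2 × Fin k, inferInstance, inferInstance, finProdFinEquiv.trans (finCongr hk),
      altJ k S, -altJ k S, h1, h2⟩

/-- The sizes in a local isomorphism of matrix algebras agree. -/
theorem eq_of_locIsoEt [IsAzumaya R A'] {N N' : ℕ} (hN : 0 < N) (h : AzInv.LocIsoEt S lam t t')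
    (hrk : ∀ p : PrimeSpectrum R, Module.rankAtStalk A p = N ^ 2)
    (hrk' : ∀ p : PrimeSpectrum R, Module.rankAtStalk A' p = N' ^ 2) (q : PrimeSpectrum R) : N = N' := by
  obtain ⟨S', _, _, _, _, f, hf, -⟩ := h
  obtain ⟨P, hP⟩ := PrimeSpectrum.comap_surjective_of_faithfullyFlat (A := R) (B := R ⊗[S] S') q
  let σ := Algebra.TensorProduct.comm S R S'
  let Q : PrimeSpectrum (S' ⊗[S] R) := PrimeSpectrum.comap σ.symm.toRingEquiv.toRingHom P
  let F : (S' ⊗[S] A) ≃ₗ[S' ⊗[S] R] (S' ⊗[S] A') :=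
    { f.toAddEquiv with
      map_smul' := fun c x => by
        show f (c • x) = c • f x
        induction c using TensorProduct.induction_on with
        | zero => simp
        | add a b ha hb => rw [add_smul, add_smul, map_add, ha, hb]
        | tmul s r =>
          have h1 : ∀ y : S' ⊗[S] A,
              (s ⊗ₜ[S] r : S' ⊗[S] R) • y = s • (((1 : S') ⊗ₜ[S] algebraMap R A r) * y) := fun y => by
            rw [Algebra.smul_def, ← smul_mul_assoc]
            congr 1
            show scalarHom S A S' (s ⊗ₜ r) = _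
            simp [scalarHom, TensorProduct.smul_tmul']
          have h1' : ∀ y : S' ⊗[S] A',
              (s ⊗ₜ[S] r : S' ⊗[S] R) • y = s • (((1 : S') ⊗ₜ[S] algebraMap R A' r) * y) := fun y => by
            rw [Algebra.smul_def, ← smul_mul_assoc]
            congr 1
            show scalarHom S A' S' (s ⊗ₜ r) = _
            simp [scalarHom, TensorProduct.smul_tmul']
          rw [h1, h1', map_smul, hf] }
  have h1 := congr_fun (Module.rankAtStalk_eq_of_equiv F) Q
  rw [rankAtStalk_base (R := R) S A S', rankAtStalk_base (R := R) S A' S', hrk, hrk'] at h1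
  exact (Nat.pow_left_injective two_ne_zero h1)

end Transport

end GrothLib.AzInvol

namespace GrothLib.AzInvol

attribute [local instance] Algebra.TensorProduct.rightAlgebra scalarAlgebra

variable {S : Type u} {R : Type v} [CommRing S] [CommRing R] [Algebra S R] {lam : R ≃ₐ[S] R}

theorem isAzumayaDeg_self : AzInv.IsAzumayaDeg R R 1 := by
  refine ⟨inferInstance, fun p => ?_⟩
  have := p.nontrivial
  rw [Module.rankAtStalk_self]; rfl

theorem lAlt_symplectic (hlam : ∀ r, lam (lam r) = r) (J : (Matrix (Fin 2) (Fin 2) R)ˣ)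
    (hJ : (↑J : Matrix (Fin 2) (Fin 2) R) = Matrix.of ![![0, -1], ![1, 0]]) (e : R)
    (hJt : AzInv.LamInv.transpose lam (Fin 2) hlam (↑J : Matrix (Fin 2) (Fin 2) R) = e • (↑J : Matrix (Fin 2) (Fin 2) R))
    (he : lam e * e = 1) (p : PrimeSpectrum S) :
    p ∈ LAlt ((AzInv.LamInv.transpose lam (Fin 2) hlam).conj J e hJt he) 1 := by
  refine ⟨S, inferInstance, inferInstance, inferInstance, ⟨p, PrimeSpectrum.ext rfl⟩, ?_⟩
  have h1 : (-alt2 S).map (algebraMap S R) = (↑J : Matrix (Fin 2) (Fin 2) R) := by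
    rw [hJ]; ext i j; fin_cases i <;> fin_cases j <;> simp [alt2]
  have h2 : (alt2 S).map (algebraMap S R) = (↑J⁻¹ : Matrix (Fin 2) (Fin 2) R) := by
    refine left_inv_eq_right_inv (a := (↑J : Matrix (Fin 2) (Fin 2) R)) ?_ J.mul_inv
    rw [← h1, ← Matrix.map_mul]
    rw [show alt2 S * -alt2 S = 1 from by ext i j; fin_cases i <;> fin_cases j <;> simp [alt2],
      Matrix.map_one _ (map_zero _) (map_one _)]
  have h := ((Std.transposeConj (T := S) hlam J e hJt he _ _ h1.symm h2.symm).neg).reindex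
    (Equiv.prodUnique (Fin 2) (Fin 1)).symm
  convert h using 2 <;>
    (ext ⟨i, x⟩ ⟨j, y⟩; obtain rfl := Subsingleton.elim x y; fin_cases i <;> fin_cases j <;>
      simp [altJ, alt2, Matrix.blockDiagonal_apply])

theorem sameType_self_of_forall {A : Type w} [Ring A] [Algebra S A] [Algebra R A] [IsScalarTower S R A]
    {t : AzInv.LamInv R A lam} (hlam : ∀ r, lam (lam r) = r) {n : ℕ} (hn : 0 < n) (hA : AzInv.IsAzumayaDeg R A n)
    (h : ∀ p : PrimeSpectrum S, p ∈ LOne t n) : AzInv.SameType S lam t (AzInv.LamInv.self lam hlam) := by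
  have := hA.1
  exact ⟨1, n, one_pos, hn, locIsoEt_matrix_of_types hn one_pos (by ring) hA isAzumayaDeg_self hn
    fun p => Or.inl ⟨h p, lOne_self hlam p⟩⟩

end GrothLib.AzInvol
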